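import Cfsg.Agent.H545.Dr.Fus
import Cfsg.Agent.H851.Dg.Big
import Cfsg.Agent.H934.OutCl
import Cfsg.Agent.H264.FKS.TwoFam

/-!
# S5734: missing prime powers in the symplectic and orthogonal groups (helper545)

* `goodD_of_cyc` : the general step inside `T`;
* `out_dim_psp`, `out_dim_oodd`, `out_dim_oplus`, `out_dim_ominus` : `|Out T| dim ≤ 144 log |T : M|`;
* `good_psp`, ... : a missing power of a large prime gives `GoodD`.
-/

set_option autoImplicit false
set_option linter.unusedSectionVars false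
set_option linter.style.haveILetI false

namespace Cfsg.Agent.H545.Dr

open Cfsg Cfsg.Agent.H851.Dg Cfsg.Agent.OrdDiv

section

variable {T : Type*} [Group T] [Finite T]

theorem goodD_of_cyc {C : ℝ} {M : Subgroup T} {u j N : ℕ} (hu : u.Prime) (hcyc : CycP u T) (hj : 1 ≤ j)
    (hT : u ^ j ∣ Nat.card T) (hM : ¬ u ^ j ∣ Nat.card M) (hfus : ∀ x : T, orderOf x = u ^ (j - 1 + 1) → fus x ≤ N)
    (hC : (outCard T : ℝ) * (N : ℝ) ≤ C * Real.log (M.index : ℝ)) : GoodD C T M := by
  haveI := Fact.mk hu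
  obtain ⟨P, hP⟩ := Sylow.exists_subgroup_card_pow_prime u hT
  have hPu : IsPGroup u P := IsPGroup.of_card hP
  haveI := hcyc P hPu
  obtain ⟨x, hx⟩ := IsCyclic.exists_ofOrder_eq_natCard (α := P)
  rw [hP] at hx
  have hx' : orderOf (x : T) = u ^ j := by rw [Subgroup.orderOf_coe, hx]
  have hj' : j - 1 + 1 = j := by omega
  refine goodD_inn hu (by omega : j ≠ 0) hx' (fun Q _ _ hQ => hcyc Q hQ) ?_ ?_
  · intro α hα
    apply hM
    have h1 : orderOf (α (x : T)) = u ^ j := by
      rw [← hx']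
      exact orderOf_injective α.toMonoidHom α.injective (x : T)
    rw [← h1, ← Subgroup.orderOf_mk (α (x : T)) hα]
    exact orderOf_dvd_natCard _
  · refine le_trans ?_ hC
    refine mul_le_mul_of_nonneg_left ?_ (Nat.cast_nonneg _)
    have h2 := hfus (x : T) (by rw [hj', hx'])
    exact_mod_cast h2

/-- `outCard` from the order of the automorphism group -/
theorem outCard_eq [IsSimpleGroup T] (hna : ¬ IsMulCommutative T) {n : ℕ}
    (h : Nat.card (MulAut T) = n * Nat.card T) : outCard T = n := by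
  have h1 := H934.OutB.card_out_of_aut hna h
  rw [← h1]
  rfl

theorem estimate {M : Subgroup T} {o N k a f p : ℕ} (hp : 2 ≤ p) (hidx : (p ^ f) ^ a ≤ M.index)
    (h : o * N ≤ k * (a * f)) : (o : ℝ) * (N : ℝ) ≤ (2 * k : ℕ) * Real.log (M.index : ℝ) := by
  have h1 : (2 : ℝ) ^ (a * f) ≤ (M.index : ℝ) := by
    have h2 : 2 ^ (a * f) ≤ M.index := by
      refine le_trans ?_ hidx
      rw [← pow_mul, mul_comm f a]
      exact Nat.pow_le_pow_left hp _
    exact_mod_cast h2
  have h2 : (a * f : ℕ) * Real.log 2 ≤ Real.log (M.index : ℝ) := by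
    rw [← Real.log_pow]
    exact Real.log_le_log (by positivity) h1
  have h3 : (1 : ℝ) / 2 ≤ Real.log 2 := by
    have := Real.log_two_gt_d9
    linarith
  have h4 : (o : ℝ) * (N : ℝ) ≤ (k : ℝ) * ((a * f : ℕ) : ℝ) := by exact_mod_cast h
  have h5 : (0 : ℝ) ≤ ((a * f : ℕ) : ℝ) := Nat.cast_nonneg _
  have h6 : (0 : ℝ) ≤ (k : ℝ) := Nat.cast_nonneg _
  have h7 : ((a * f : ℕ) : ℝ) ≤ 2 * Real.log (M.index : ℝ) := by nlinarith
  calc (o : ℝ) * (N : ℝ) ≤ (k : ℝ) * ((a * f : ℕ) : ℝ) := h4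
    _ ≤ (k : ℝ) * (2 * Real.log (M.index : ℝ)) := mul_le_mul_of_nonneg_left h7 h6
    _ = _ := by push_cast; ring

end

section field

variable {F : Type} [Field F] [Fintype F] {u : ℕ}

theorem cast_ne_zero_of_order (hu : u.Prime) (he : 2 ≤ orderOf ((Fintype.card F : ℕ) : ZMod u)) : (u : F) ≠ 0 := by
  intro h0
  haveI := Fact.mk hu
  obtain ⟨p, hp⟩ := CharP.exists F
  haveI := hp
  have hpp : p.Prime := CharP.char_is_prime F p
  have h1 : p ∣ u := (CharP.cast_eq_zero_iff F p u).1 h0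
  have h2 : p = u := (Nat.prime_dvd_prime_iff_eq hpp hu).1 h1
  subst h2
  obtain ⟨n, -, hn⟩ := FiniteField.card F p
  rw [hn, Nat.cast_pow, ZMod.natCast_self, zero_pow n.ne_zero] at he
  have h3 : orderOf (0 : ZMod p) = 0 := orderOf_eq_zero_iff'.2 fun k hk => by
    rw [zero_pow hk.ne']
    exact zero_ne_one
  omega

theorem scal_of_order (hu : u.Prime) (he : 2 ≤ orderOf ((Fintype.card F : ℕ) : ZMod u)) :
    ∀ a : F, a ^ u = 1 → a = 1 := by
  intro a ha
  have ha0 : a ≠ 0 := by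
    rintro rfl
    rw [zero_pow hu.ne_zero] at ha
    exact zero_ne_one ha
  have h1 : a ^ (Fintype.card F - 1) = 1 := FiniteField.pow_card_sub_one_eq_one a ha0
  have h2 : ¬ u ∣ Fintype.card F - 1 := by
    intro hd
    have hq : 1 ≤ Fintype.card F := Fintype.card_pos
    have h3 : ((Fintype.card F : ℕ) : ZMod u) = 1 := by
      have h4 : ((Fintype.card F - 1 : ℕ) : ZMod u) = 0 := (ZMod.natCast_eq_zero_iff _ _).2 hd
      rw [Nat.cast_sub hq, Nat.cast_one, sub_eq_zero] at h4
      exact h4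
    rw [h3, orderOf_one] at he
    omega
  have h3 : orderOf a ∣ 1 := by
    have h4 : Nat.gcd u (Fintype.card F - 1) = 1 := (Nat.Prime.coprime_iff_not_dvd hu).2 h2
    rw [← h4]
    exact Nat.dvd_gcd (orderOf_dvd_of_pow_eq_one ha) (orderOf_dvd_of_pow_eq_one h1)
  exact orderOf_eq_one_iff.1 (Nat.dvd_one.1 h3)

/-- fusion in `PSp` -/
theorem fus_psp {m b : ℕ} (hu : u.Prime) (he : 2 ≤ orderOf ((Fintype.card F : ℕ) : ZMod u)) {x : PSp m F}
    (hx : orderOf x = u ^ (b + 1)) : fus x ≤ 2 * m := by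
  haveI : Finite (Matrix.symplecticGroup (Fin m) F) := Subtype.finite
  haveI : Finite (PSp m F) := inferInstance
  have h1 := fus_le (ι := Fin m ⊕ Fin m) (K := F)
    (MonoidHom.toHomUnits (Matrix.symplecticGroup (Fin m) F).subtype)
    (fun a b hab => Subtype.ext (congrArg Units.val hab))
    (QuotientGroup.mk' (Subgroup.center (Matrix.symplecticGroup (Fin m) F))) (QuotientGroup.mk'_surjective _)
    (fun k hk => by
      have h1 := (QuotientGroup.eq_one_iff k).1 hk
      exact (LieClassical.SympCenter.mem_center_iff m k).1 h1)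
    hu (cast_ne_zero_of_order hu he) (scal_of_order hu he) hx
  rw [Fintype.card_sum, Fintype.card_fin] at h1
  omega

/-- fusion in `PΩ` -/
theorem fus_pomega {ι : Type} [Fintype ι] [DecidableEq ι] (Q : QuadraticForm F (ι → F))
    (hQ : (QuadraticMap.polarBilin Q).Nondegenerate) (h3 : 3 ≤ Fintype.card ι) (hs : ∃ u : ι → F, u ≠ 0 ∧ Q u = 0)
    {b : ℕ} (hu : u.Prime) (he : 2 ≤ orderOf ((Fintype.card F : ℕ) : ZMod u)) {x : POmega F (⇑Q)}
    (hx : orderOf x = u ^ (b + 1)) : fus x ≤ Fintype.card ι := by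
  haveI : Finite (isometryGroup F (⇑Q)) := inferInstance
  haveI : Finite (POmega F (⇑Q)) := inferInstance
  exact fus_le (ι := ι) (K := F) ((isometryGroup F (⇑Q)).subtype.comp (Omega F (⇑Q)).subtype)
    ((Subgroup.subtype_injective _).comp (Subgroup.subtype_injective _))
    (QuotientGroup.mk' (Subgroup.center (Omega F (⇑Q)))) (QuotientGroup.mk'_surjective _)
    (fun k hk => by
      have h1 := (QuotientGroup.eq_one_iff k).1 hk
      rcases (LieClassical.OmegaCenter.mem_center_omega_iff Q hQ h3 hs k).1 h1 with h2 | h2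
      · exact ⟨1, by rw [one_smul]; exact h2⟩
      · exact ⟨-1, by rw [neg_one_smul]; exact h2⟩)
    hu (cast_ne_zero_of_order hu he) (scal_of_order hu he) hx

/-! ### `|Out T| dim ≤ 144 log |T : M|` -/

theorem out_dim_psp {m : ℕ} (hm : 3 ≤ m) (hs : IsSimpleGroup (PSp m F)) (hna : ¬ IsMulCommutative (PSp m F))
    {M : Subgroup (PSp m F)} (hM : M ≠ ⊤) :
    (outCard (PSp m F) : ℝ) * ((2 * m : ℕ) : ℝ) ≤ 144 * Real.log (M.index : ℝ) := by
  obtain ⟨p, f, hp, hf, hF⟩ := H934.OutCl.exists_pf F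
  have := Fact.mk hp
  haveI : Finite (Matrix.symplecticGroup (Fin m) F) := Subtype.finite
  haveI : Finite (PSp m F) := inferInstance
  have h1 := S0814.result (F := F) p f hf hF m (by omega) (by omega)
  have h2 := outCard_eq hna h1
  have h3 : outCard (PSp m F) ≤ 2 * f := by
    rw [h2, if_neg (by omega), one_mul]
    exact Nat.mul_le_mul_right _ (Nat.gcd_le_left _ (by norm_num))
  have h4 := H934.IdxCl.psp (by omega) hs M hM
  rw [hF] at h4
  have h5 := estimate (o := outCard (PSp m F)) (N := 2 * m) (k := 72) hp.two_le h4 (by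
    obtain ⟨k, rfl⟩ : ∃ k, m = k + 3 := ⟨m - 3, by omega⟩
    calc outCard (PSp (k + 3) F) * (2 * (k + 3)) ≤ (2 * f) * (2 * (k + 3)) := Nat.mul_le_mul_right _ h3
      _ ≤ 72 * ((k + 3 - 1) * f) := by
        rw [show k + 3 - 1 = k + 2 by omega]
        nlinarith)
  exact_mod_cast h5

theorem out_dim_oodd {m : ℕ} (hm : 3 ≤ m) (hodd : Odd (Fintype.card F))
    (hs : IsSimpleGroup (POmega F (quadFormOdd m F))) (hna : ¬ IsMulCommutative (POmega F (quadFormOdd m F)))
    {M : Subgroup (POmega F (quadFormOdd m F))} (hM : M ≠ ⊤) :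
    (outCard (POmega F (quadFormOdd m F)) : ℝ) * ((2 * m + 1 : ℕ) : ℝ) ≤ 144 * Real.log (M.index : ℝ) := by
  obtain ⟨p, f, hp, hf, hF⟩ := H934.OutCl.exists_pf F
  have := Fact.mk hp
  haveI : Finite (isometryGroup F (quadFormOdd m F)) := inferInstance
  haveI : Finite (POmega F (quadFormOdd m F)) := inferInstance
  have hpo : Odd p := by
    rw [hF] at hodd
    exact Nat.Odd.of_mul_left (n := p ^ (f - 1)) (by rwa [← pow_succ', Nat.sub_add_cancel hf])
  have h1 := S0816.result (F := F) p f hf hF hpo m hm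
  have h2 := outCard_eq hna h1
  have h4 := H934.IdxCl.pomega_odd (by omega) hs M hM
  rw [hF] at h4
  have h5 := estimate (o := outCard (POmega F (quadFormOdd m F))) (N := 2 * m + 1) (k := 72) hp.two_le h4 (by
    rw [h2]
    obtain ⟨k, rfl⟩ : ∃ k, m = k + 3 := ⟨m - 3, by omega⟩
    rw [show k + 3 - 1 = k + 2 by omega]
    nlinarith)
  exact_mod_cast h5

theorem out_dim_oplus {m : ℕ} (hm : 4 ≤ m)
    (hs : IsSimpleGroup (POmega F (quadFormPlus m F))) (hna : ¬ IsMulCommutative (POmega F (quadFormPlus m F)))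
    {M : Subgroup (POmega F (quadFormPlus m F))} (hM : M ≠ ⊤) :
    (outCard (POmega F (quadFormPlus m F)) : ℝ) * ((2 * m : ℕ) : ℝ) ≤ 144 * Real.log (M.index : ℝ) := by
  obtain ⟨p, f, hp, hf, hF⟩ := H934.OutCl.exists_pf F
  have := Fact.mk hp
  haveI : Finite (isometryGroup F (quadFormPlus m F)) := inferInstance
  haveI : Finite (POmega F (quadFormPlus m F)) := inferInstance
  have h1 := S0817.result (F := F) p f hf hF m hm
  have h2 := outCard_eq hna h1
  have h3 : outCard (POmega F (quadFormPlus m F)) ≤ 24 * f := by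
    rw [h2]
    apply Nat.mul_le_mul_right
    split_ifs <;> norm_num
  have h4 := H934.IdxCl.pomega_plus (by omega) hs M hM
  rw [hF] at h4
  have h5 := estimate (o := outCard (POmega F (quadFormPlus m F))) (N := 2 * m) (k := 72) hp.two_le h4 (by
    refine (Nat.mul_le_mul_right _ h3).trans ?_
    obtain ⟨k, rfl⟩ : ∃ k, m = k + 4 := ⟨m - 4, by omega⟩
    rw [show k + 4 - 1 = k + 3 by omega]
    nlinarith)
  exact_mod_cast h5

theorem out_dim_ominus {m : ℕ} (hm : 4 ≤ m) (a b : F)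
    (hab : ∀ z₁ z₂ : F, z₁ ^ 2 + a * z₁ * z₂ + b * z₂ ^ 2 = 0 → z₁ = 0 ∧ z₂ = 0)
    (hs : IsSimpleGroup (POmega F (quadFormMinus (m - 1) F a b)))
    (hna : ¬ IsMulCommutative (POmega F (quadFormMinus (m - 1) F a b)))
    {M : Subgroup (POmega F (quadFormMinus (m - 1) F a b))} (hM : M ≠ ⊤) :
    (outCard (POmega F (quadFormMinus (m - 1) F a b)) : ℝ) * ((2 * m : ℕ) : ℝ) ≤ 144 * Real.log (M.index : ℝ) := by
  obtain ⟨p, f, hp, hf, hF⟩ := H934.OutCl.exists_pf F
  have := Fact.mk hp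
  haveI : Finite (isometryGroup F (quadFormMinus (m - 1) F a b)) := inferInstance
  haveI : Finite (POmega F (quadFormMinus (m - 1) F a b)) := inferInstance
  have h1 := S0818.result (F := F) p f hf hF m hm a b hab
  have h2 := outCard_eq hna h1
  have h3 : outCard (POmega F (quadFormMinus (m - 1) F a b)) ≤ 8 * f := by
    rw [h2]
    apply Nat.mul_le_mul_right
    split_ifs <;> norm_num
  have h4 := H934.IdxCl.pomega_minus (m := m - 1) (by omega) a b hs M hM
  rw [hF] at h4
  have h5 := estimate (o := outCard (POmega F (quadFormMinus (m - 1) F a b))) (N := 2 * m) (k := 72) hp.two_le h4 (by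
    refine (Nat.mul_le_mul_right _ h3).trans ?_
    obtain ⟨k, rfl⟩ : ∃ k, m = k + 4 := ⟨m - 4, by omega⟩
    rw [show k + 4 - 1 - 1 = k + 2 by omega]
    nlinarith)
  exact_mod_cast h5

/-! ### A missing prime power -/

theorem two_le_of_bigU {m q u : ℕ} (hm : 2 ≤ m) (h : (Even (orderOf ((q : ℕ) : ZMod u)) ∧
    m < orderOf ((q : ℕ) : ZMod u) ∧ orderOf ((q : ℕ) : ZMod u) ≤ 2 * m) ∨ (Odd (orderOf ((q : ℕ) : ZMod u)) ∧
      m < 2 * orderOf ((q : ℕ) : ZMod u) ∧ orderOf ((q : ℕ) : ZMod u) ≤ m)) : 2 ≤ orderOf ((q : ℕ) : ZMod u) := by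
  rcases h with ⟨-, h, -⟩ | ⟨-, h, -⟩ <;> omega

theorem good_psp {m : ℕ} (hm : 3 ≤ m) (hs : IsSimpleGroup (PSp m F)) (hna : ¬ IsMulCommutative (PSp m F))
    {M : Subgroup (PSp m F)} (hM : M ≠ ⊤)
    (hcyc : ∀ u, BigU (.psp m (Fintype.card F)) u → CycP u (PSp m F)) (h : BigPow (.psp m (Fintype.card F)) M) :
    GoodD 144 (PSp m F) M := by
  haveI : Finite (Matrix.symplecticGroup (Fin m) F) := Subtype.finite
  haveI : Finite (PSp m F) := inferInstance
  obtain ⟨u, j, hu, hj, hT, hR⟩ := h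
  have he := two_le_of_bigU (by omega) hu.2
  exact goodD_of_cyc hu.1 (hcyc u hu) hj hT hR (fun x hx => fus_psp hu.1 he hx) (out_dim_psp hm hs hna hM)

theorem good_oodd {m : ℕ} (hm : 3 ≤ m) (hodd : Odd (Fintype.card F))
    (hs : IsSimpleGroup (POmega F (quadFormOdd m F))) (hna : ¬ IsMulCommutative (POmega F (quadFormOdd m F)))
    {M : Subgroup (POmega F (quadFormOdd m F))} (hM : M ≠ ⊤)
    (hcyc : ∀ u, BigU (.oodd m (Fintype.card F)) u → CycP u (POmega F (quadFormOdd m F)))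
    (h : BigPow (.oodd m (Fintype.card F)) M) : GoodD 144 (POmega F (quadFormOdd m F)) M := by
  haveI : Finite (isometryGroup F (quadFormOdd m F)) := inferInstance
  haveI : Finite (POmega F (quadFormOdd m F)) := inferInstance
  obtain ⟨u, j, hu, hj, hT, hR⟩ := h
  have he := two_le_of_bigU (by omega) hu.2
  refine goodD_of_cyc hu.1 (hcyc u hu) hj hT hR ?_ (out_dim_oodd hm hodd hs hna hM)
  have h2 : (2 : F) ≠ 0 := by
    intro h0
    obtain ⟨p, hp⟩ := CharP.exists F
    haveI := hp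
    have hpp : p.Prime := CharP.char_is_prime F p
    have h1 : p ∣ 2 := (CharP.cast_eq_zero_iff F p 2).1 (by exact_mod_cast h0)
    have h2 : p = 2 := (Nat.prime_dvd_prime_iff_eq hpp Nat.prime_two).1 h1
    obtain ⟨n, -, hn⟩ := FiniteField.card F p
    rw [hn, h2] at hodd
    exact (Nat.not_odd_iff_even.2 (even_two.pow_of_ne_zero n.ne_zero)) hodd
  have hcard : Fintype.card (Unit ⊕ (Fin m ⊕ Fin m)) = 2 * m + 1 := by simp; ring
  have key : ∀ x : POmega F (⇑(LieClassical.OmegaReindex.quadOdd m F)), orderOf x = u ^ (j - 1 + 1) →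
      fus x ≤ 2 * m + 1 := by
    intro x hx
    rw [← hcard]
    exact fus_pomega (LieClassical.OmegaReindex.quadOdd m F) (LieClassical.OmegaReindex.quadOdd_nondegenerate h2)
      (by rw [hcard]; omega) (LieClassical.OmegaReindex.quadOdd_isotropic (by omega)) hu.1 he hx
  rw [LieClassical.OmegaReindex.coe_quadOdd] at key
  exact key

theorem good_oplus {m : ℕ} (hm : 4 ≤ m)
    (hs : IsSimpleGroup (POmega F (quadFormPlus m F))) (hna : ¬ IsMulCommutative (POmega F (quadFormPlus m F)))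
    {M : Subgroup (POmega F (quadFormPlus m F))} (hM : M ≠ ⊤)
    (hcyc : ∀ u, BigU (.oplus m (Fintype.card F)) u → CycP u (POmega F (quadFormPlus m F)))
    (h : BigPow (.oplus m (Fintype.card F)) M) : GoodD 144 (POmega F (quadFormPlus m F)) M := by
  haveI : Finite (isometryGroup F (quadFormPlus m F)) := inferInstance
  haveI : Finite (POmega F (quadFormPlus m F)) := inferInstance
  obtain ⟨u, j, hu, hj, hT, hR⟩ := h
  have he : 2 ≤ orderOf ((Fintype.card F : ℕ) : ZMod u) := by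
    rcases hu.2 with ⟨-, h, -⟩ | ⟨-, h, -⟩ <;> omega
  refine goodD_of_cyc hu.1 (hcyc u hu) hj hT hR ?_ (out_dim_oplus hm hs hna hM)
  have hcard : Fintype.card (Fin m ⊕ Fin m) = 2 * m := by simp; ring
  have key : ∀ x : POmega F (⇑(LieClassical.OmegaReindex.quadPlus m F)), orderOf x = u ^ (j - 1 + 1) →
      fus x ≤ 2 * m := by
    intro x hx
    rw [← hcard]
    exact fus_pomega (LieClassical.OmegaReindex.quadPlus m F) LieClassical.OmegaReindex.quadPlus_nondegenerate
      (by rw [hcard]; omega) (LieClassical.OmegaReindex.quadPlus_isotropic (by omega)) hu.1 he hx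
  rw [LieClassical.OmegaReindex.coe_quadPlus] at key
  exact key

theorem good_ominus {m : ℕ} (hm : 4 ≤ m) (a b : F)
    (hab : ∀ z₁ z₂ : F, z₁ ^ 2 + a * z₁ * z₂ + b * z₂ ^ 2 = 0 → z₁ = 0 ∧ z₂ = 0)
    (hs : IsSimpleGroup (POmega F (quadFormMinus (m - 1) F a b)))
    (hna : ¬ IsMulCommutative (POmega F (quadFormMinus (m - 1) F a b)))
    {M : Subgroup (POmega F (quadFormMinus (m - 1) F a b))} (hM : M ≠ ⊤)
    (hcyc : ∀ u, BigU (.ominus m (Fintype.card F)) u → CycP u (POmega F (quadFormMinus (m - 1) F a b)))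
    (h : BigPow (.ominus m (Fintype.card F)) M) : GoodD 144 (POmega F (quadFormMinus (m - 1) F a b)) M := by
  haveI : Finite (isometryGroup F (quadFormMinus (m - 1) F a b)) := inferInstance
  haveI : Finite (POmega F (quadFormMinus (m - 1) F a b)) := inferInstance
  obtain ⟨u, j, hu, hj, hT, hR⟩ := h
  have he : 2 ≤ orderOf ((Fintype.card F : ℕ) : ZMod u) := by
    rcases hu.2 with ⟨-, h, -⟩ | ⟨-, h, -⟩ <;> omega
  refine goodD_of_cyc hu.1 (hcyc u hu) hj hT hR ?_ (out_dim_ominus hm a b hab hs hna hM)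
  have hcard : Fintype.card ((Fin (m - 1) ⊕ Fin (m - 1)) ⊕ Fin 2) = 2 * m := by simp; omega
  have key : ∀ x : POmega F (⇑(LieClassical.OmegaReindex.quadMinus (m - 1) F a b)), orderOf x = u ^ (j - 1 + 1) →
      fus x ≤ 2 * m := by
    intro x hx
    rw [← hcard]
    exact fus_pomega (LieClassical.OmegaReindex.quadMinus (m - 1) F a b)
      (LieClassical.OmegaReindex.quadMinus_nondegenerate hab)
      (by rw [hcard]; omega) (LieClassical.OmegaReindex.quadMinus_isotropic (by omega) a b) hu.1 he hx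
  rw [LieClassical.OmegaReindex.coe_quadMinus] at key
  exact key

end field

end Cfsg.Agent.H545.Dr
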