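import Cfsg.Agent.H545.Dr.Big
import Cfsg.Agent.H436.Names
import Cfsg.Agent.H491.Dp.Gd
import Cfsg.Agent.H953.DpC

/-!
# S5734: the classical groups, transport along isomorphisms (helper545)

* `GoodD.congr`, `Spec.congr`, `BigPow.congr`;
* `spec_of_nd` : a lower bound for the number of derangements of `T` gives `Spec`;
* `spec_of_const` : `c |T| ≤ |NC M|` with `c` constant gives `Spec` (S5879);
* `good_classical` : all classical groups (with helper491's `good_psl`, `good_psu` and helper953's cyclic Sylow subgroups);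
* `out_dim` : `|Out T| dim T ≤ 144 log |T : M|` for the symplectic and orthogonal groups.
-/

set_option autoImplicit false
set_option linter.unusedSectionVars false
set_option linter.style.haveILetI false

namespace Cfsg.Agent.H545.Dr

open Cfsg Cfsg.Agent.H851.Dg Cfsg.Agent.OrdDiv Cfsg.Agent.H436

universe u v

section

variable {T : Type u} {T' : Type v} [Group T] [Group T']

theorem outCard_congr (e : T ≃* T') : outCard T = outCard T' :=
  H934.OutB.card_out_congr e

theorem index_map_equiv' (e : T ≃* T') (M : Subgroup T) : (M.map e.toMonoidHom).index = M.index :=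
  Subgroup.index_map_equiv M e

theorem GoodD.congr {C : ℝ} (e : T ≃* T') {M : Subgroup T} (h : GoodD C T' (M.map e.toMonoidHom)) : GoodD C T M := by
  obtain ⟨D, u, b, x, h1, h2, h3, h4, h5, h6, h7, h8⟩ := h
  let Φ : MulAut T ≃* MulAut T' := MulAut.congr e
  have hΦ : ∀ (α : MulAut T) (t : T), Φ α (e t) = e (α t) := by
    intro α t
    simp [Φ, MulAut.congr]
  have hΦinn : ∀ α : MulAut T, Φ α ∈ (MulAut.conj (G := T')).range ↔ α ∈ (MulAut.conj (G := T)).range := by
    intro α
    constructor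
    · rintro ⟨t', ht'⟩
      refine ⟨e.symm t', ?_⟩
      ext t
      apply e.injective
      have h9 := hΦ α t
      rw [← ht', MulAut.conj_apply] at h9
      rw [← h9, MulAut.conj_apply, map_mul, map_mul, map_inv, e.apply_symm_apply]
    · rintro ⟨t, rfl⟩
      refine ⟨e t, ?_⟩
      ext t'
      obtain ⟨s, rfl⟩ := e.surjective t'
      rw [hΦ, MulAut.conj_apply, MulAut.conj_apply, map_mul, map_mul, map_inv]
  have hsurj : Function.Surjective (Φ.toMonoidHom) := Φ.surjective
  have hinn : (MulAut.conj (G := T)).range = ((MulAut.conj (G := T')).range).comap Φ.toMonoidHom := by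
    ext α
    exact (hΦinn α).symm
  refine ⟨D.comap Φ.toMonoidHom, u, b, e.symm x, ?_, h2, h3, ?_, ?_, ?_, ?_, ?_⟩
  · rw [hinn]
    exact Subgroup.comap_mono h1
  · rw [← h4]
    exact orderOf_injective e.symm.toMonoidHom e.symm.injective x
  · intro P hxP hPc hPu
    have h9 : IsCyclic (P.map e.toMonoidHom) := by
      refine h5 _ ⟨e.symm x, hxP, e.apply_symm_apply x⟩ ?_ (hPu.map _)
      rintro _ ⟨y, hy, rfl⟩
      have h10 : Commute (e y) (e (e.symm x)) := (hPc y hy).map e
      rwa [e.apply_symm_apply] at h10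
    exact isCyclic_of_injective (P.equivMapOfInjective e.toMonoidHom e.injective).toMonoidHom
      (P.equivMapOfInjective e.toMonoidHom e.injective).injective
  · have h9 : (MulAut.conj (G := T)).range.relIndex (D.comap Φ.toMonoidHom) =
        (MulAut.conj (G := T')).range.relIndex D := by
      rw [hinn, Subgroup.relIndex_comap, Subgroup.map_comap_eq_self_of_surjective hsurj]
    rwa [h9]
  · intro α hα
    apply h7 (Φ α)
    refine ⟨α (e.symm x), hα, ?_⟩
    have := hΦ α (e.symm x)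
    rw [e.apply_symm_apply] at this
    exact this.symm
  · have h9 : (D.comap Φ.toMonoidHom).index = D.index := Subgroup.index_comap_of_surjective D hsurj
    have h10 : fusD (D.comap Φ.toMonoidHom) (e.symm x) = fusD D x := by
      unfold fusD
      refine Nat.card_congr (e.toEquiv.subtypeEquiv fun y => and_congr ?_ ?_)
      · constructor
        · intro hy
          obtain ⟨j, hj⟩ := Subgroup.mem_zpowers_iff.1 hy
          refine Subgroup.mem_zpowers_iff.2 ⟨j, ?_⟩
          rw [← hj]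
          show x ^ j = e (e.symm x ^ j)
          rw [map_zpow, e.apply_symm_apply]
        · intro hy
          obtain ⟨j, hj⟩ := Subgroup.mem_zpowers_iff.1 hy
          refine Subgroup.mem_zpowers_iff.2 ⟨j, ?_⟩
          apply e.injective
          rw [map_zpow, e.apply_symm_apply]
          exact hj
      · constructor
        · rintro ⟨α, hα, hαx⟩
          refine ⟨Φ α, hα, ?_⟩
          have := hΦ α (e.symm x)
          rw [e.apply_symm_apply, hαx] at this
          exact this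
        · rintro ⟨β, hβ, hβx⟩
          obtain ⟨α, rfl⟩ := Φ.surjective β
          refine ⟨α, hβ, ?_⟩
          apply e.injective
          rw [← hΦ, e.apply_symm_apply]
          exact hβx
    rw [h9, h10]
    have h11 : (M.map e.toMonoidHom).index = M.index := index_map_equiv' e M
    rwa [h11] at h8

theorem Spec.congr [Finite T] [Finite T'] {C : ℝ} (e : T ≃* T') {M : Subgroup T}
    (h : Spec C T' (M.map e.toMonoidHom)) : Spec C T M := by
  unfold Spec at *
  have h1 : (M.map e.toMonoidHom).index = M.index := index_map_equiv' e M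
  have h2 : Nat.card T = Nat.card T' := Nat.card_congr e.toEquiv
  have h3 : Nat.card (NC (M.map e.toMonoidHom)) = Nat.card (NC M) := by
    refine Nat.card_congr (Equiv.symm (e.toEquiv.subtypeEquiv fun x => ?_))
    constructor
    · intro hx g hg
      obtain ⟨s, rfl⟩ := e.surjective g
      obtain ⟨y, hy, hy2⟩ := hg
      apply hx s
      have h4 : e y = e (s * x * s⁻¹) := by
        rw [map_mul, map_mul, map_inv]
        exact hy2
      rw [← e.injective h4]
      exact hy
    · intro hx g hg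
      apply hx (e g)
      refine ⟨g * x * g⁻¹, hg, ?_⟩
      show e (g * x * g⁻¹) = e g * e x * (e g)⁻¹
      rw [map_mul, map_mul, map_inv]
  rw [outCard_congr e, h2, ← h1, ← h3]
  exact h

theorem BigPow.congr {g : Grp} (e : T ≃* T') {M : Subgroup T} (h : BigPow g M) : BigPow g (M.map e.toMonoidHom) := by
  obtain ⟨u, j, h1, h2, h3, h4⟩ := h
  refine ⟨u, j, h1, h2, ?_, ?_⟩
  · rwa [← Nat.card_congr e.toEquiv]
  · rwa [Nat.card_congr (M.equivMapOfInjective e.toMonoidHom e.injective).toEquiv.symm]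

theorem map_ne_top (e : T ≃* T') {M : Subgroup T} (hM : M ≠ ⊤) : M.map e.toMonoidHom ≠ ⊤ := by
  intro h
  apply hM
  rw [eq_top_iff]
  intro x _
  have h1 : e x ∈ M.map e.toMonoidHom := by rw [h]; exact Subgroup.mem_top _
  obtain ⟨y, hy, hyx⟩ := h1
  rwa [← e.injective hyx]

/-- From a lower bound for the number of derangements of `T`. -/
theorem spec_of_nd [Finite T] {M : Subgroup T} {c K : ℝ} {N : ℕ} (hc : 0 < c)
    (h1 : (outCard T : ℝ) * (N : ℝ) ≤ K * Real.log (M.index : ℝ))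
    (h2 : c * (Nat.card T : ℝ) ≤ (N : ℝ) * (nd M : ℝ)) : Spec (K / c) T M := by
  have h3 : (Nat.card (NC M) : ℝ) = (nd M : ℝ) := rfl
  unfold Spec
  rw [h3]
  have h4 : (0 : ℝ) ≤ (nd M : ℝ) := Nat.cast_nonneg _
  have h5 : (0 : ℝ) ≤ (outCard T : ℝ) := Nat.cast_nonneg _
  rw [div_mul_eq_mul_div, div_mul_eq_mul_div, le_div_iff₀ hc]
  calc (outCard T : ℝ) * (Nat.card T : ℝ) * c = (outCard T : ℝ) * (c * (Nat.card T : ℝ)) := by ring
    _ ≤ (outCard T : ℝ) * ((N : ℝ) * (nd M : ℝ)) := mul_le_mul_of_nonneg_left h2 h5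
    _ = (outCard T : ℝ) * (N : ℝ) * (nd M : ℝ) := by ring
    _ ≤ _ := mul_le_mul_of_nonneg_right h1 h4

/-- `|Out T| ≤ 6 log |T : M|` from S5879 -/
theorem outCard_le {M : Subgroup T}
    (h1 : (Nat.card (Cfsg.Out T) : ℝ) ≤ 3 * Real.logb 2 (M.index : ℝ)) :
    (outCard T : ℝ) ≤ 6 * Real.log (M.index : ℝ) := by
  have h2 : (Nat.card (Cfsg.Out T) : ℝ) = (outCard T : ℝ) := rfl
  rw [h2, Real.logb, ← mul_div_assoc, le_div_iff₀ (Real.log_pos one_lt_two)] at h1
  have h3 : (1 : ℝ) / 2 ≤ Real.log 2 := by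
    have := Real.log_two_gt_d9
    linarith
  have h4 : (0 : ℝ) ≤ (outCard T : ℝ) := Nat.cast_nonneg _
  nlinarith

/-- A constant proportion of derangements in `T`. -/
theorem spec_of_const [Finite T] {M : Subgroup T} (hout : (outCard T : ℝ) ≤ 6 * Real.log (M.index : ℝ))
    {c : ℝ} (hc : 0 < c) (h : c * (Nat.card T : ℝ) ≤ nd M) : Spec (6 / c) T M := by
  refine spec_of_nd (N := 1) hc ?_ (by rwa [Nat.cast_one, one_mul])
  rw [Nat.cast_one, mul_one]
  exact hout

/-- A missing prime power with cyclic Sylow subgroups, `T` linear of bounded degree. -/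
theorem goodD_of_missC [Finite T] {M : Subgroup T} (hout : (outCard T : ℝ) ≤ 6 * Real.log (M.index : ℝ))
    {u j N : ℕ} (hu : u.Prime) (hcyc : CycP u T) (hj : 1 ≤ j) (hT : u ^ j ∣ Nat.card T) (hR : ¬ u ^ j ∣ Nat.card M)
    (hfus : ∀ x : T, orderOf x = u ^ (j - 1 + 1) → fus x ≤ N) : GoodD (6 * N) T M := by
  refine goodD_of_cyc hu hcyc hj hT hR hfus ?_
  calc (outCard T : ℝ) * (N : ℝ) ≤ 6 * Real.log (M.index : ℝ) * (N : ℝ) :=
        mul_le_mul_of_nonneg_right hout (Nat.cast_nonneg _)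
    _ = _ := by ring

end

/-! ### The classical groups -/

/-- the classical names -/
def ClName : Grp → Prop
  | .psl n _ => 3 ≤ n
  | .psu n _ => 4 ≤ n
  | .psp m _ => 3 ≤ m
  | .oodd m _ => 3 ≤ m
  | .oplus m _ => 4 ≤ m
  | .ominus m _ => 4 ≤ m
  | _ => False

theorem cycP_of_goodP {X : Type*} [Group X] [Finite X] {w r : ℕ} (h : H192.Dp.GoodP X r w) : CycP r X := by
  haveI := Fact.mk h.prime
  intro P hP
  obtain ⟨Q, hQ⟩ := hP.exists_le_sylow
  haveI := h.cyc Q
  exact isCyclic_of_injective (Subgroup.inclusion hQ) (Subgroup.inclusion_injective hQ)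

theorem cyc_psp {F : Type} [Field F] [Fintype F] {m q r : ℕ} (hF : Fintype.card F = q) (hm : 3 ≤ m)
    (hc : Cond (.psp m q)) (hr : BigU (.psp m q) r) : CycP r (PSp m F) := by
  subst hF
  haveI : Finite (Matrix.symplecticGroup (Fin m) F) := Subtype.finite
  haveI : Finite (PSp m F) := inferInstance
  have hN : IsNamed (.psp m (Fintype.card F)) (PSp m F) :=
    IsNamed.mk' ⟨F, _, _, rfl, ⟨MulEquiv.refl _⟩⟩ hc (psp_eq (by omega))
  refine cycP_of_goodP (H953.Dp.psp_row hN hm hr.1 ⟨_, ?_, rfl⟩)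
  rcases hr.2 with ⟨h1, h2, h3⟩ | ⟨h1, h2, h3⟩
  · exact ⟨by omega, Or.inl ⟨h1, h2, h3⟩⟩
  · refine ⟨?_, Or.inr ⟨h1, h2, h3⟩⟩
    obtain ⟨k, hk⟩ := h1
    omega

theorem cyc_oodd {F : Type} [Field F] [Fintype F] {m q r : ℕ} (hF : Fintype.card F = q) (hm : 3 ≤ m)
    (hc : Cond (.oodd m q)) (hr : BigU (.oodd m q) r) : CycP r (POmega F (quadFormOdd m F)) := by
  subst hF
  haveI : Finite (isometryGroup F (quadFormOdd m F)) := inferInstance
  haveI : Finite (POmega F (quadFormOdd m F)) := inferInstance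
  have hN : IsNamed (.oodd m (Fintype.card F)) (POmega F (quadFormOdd m F)) :=
    IsNamed.mk' ⟨F, _, _, rfl, ⟨MulEquiv.refl _⟩⟩ hc (oodd_eq hm hc.2.1)
  refine cycP_of_goodP (H953.Dp.oodd_row hN hm hr.1 ⟨_, ?_, rfl⟩)
  rcases hr.2 with ⟨h1, h2, h3⟩ | ⟨h1, h2, h3⟩
  · exact ⟨by omega, Or.inl ⟨h1, h2, h3⟩⟩
  · refine ⟨?_, Or.inr ⟨h1, h2, h3⟩⟩
    obtain ⟨k, hk⟩ := h1
    omega

theorem cyc_oplus {F : Type} [Field F] [Fintype F] {m q r : ℕ} (hF : Fintype.card F = q) (hm : 4 ≤ m)
    (hc : Cond (.oplus m q)) (hr : BigU (.oplus m q) r) : CycP r (POmega F (quadFormPlus m F)) := by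
  subst hF
  haveI : Finite (isometryGroup F (quadFormPlus m F)) := inferInstance
  haveI : Finite (POmega F (quadFormPlus m F)) := inferInstance
  have hN : IsNamed (.oplus m (Fintype.card F)) (POmega F (quadFormPlus m F)) :=
    IsNamed.mk' ⟨F, _, _, rfl, ⟨MulEquiv.refl _⟩⟩ hc (oplus_eq hm)
  refine cycP_of_goodP (H953.Dp.oplus_row hN hm hr.1 ⟨_, ?_, rfl⟩)
  rcases hr.2 with ⟨h1, h2, h3⟩ | ⟨h1, h2, h3⟩
  · exact ⟨by omega, Or.inl ⟨h1, h2, by omega⟩⟩
  · exact ⟨by omega, Or.inr ⟨h1, h2, h3⟩⟩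

theorem cyc_ominus {F : Type} [Field F] [Fintype F] {m q r : ℕ} {a b : F} (hF : Fintype.card F = q) (hm : 4 ≤ m)
    (hab : ∀ z₁ z₂ : F, z₁ ^ 2 + a * z₁ * z₂ + b * z₂ ^ 2 = 0 → z₁ = 0 ∧ z₂ = 0)
    (hc : Cond (.ominus m q)) (hr : BigU (.ominus m q) r) : CycP r (POmega F (quadFormMinus (m - 1) F a b)) := by
  subst hF
  haveI : Finite (isometryGroup F (quadFormMinus (m - 1) F a b)) := inferInstance
  haveI : Finite (POmega F (quadFormMinus (m - 1) F a b)) := inferInstance
  have hN : IsNamed (.ominus m (Fintype.card F)) (POmega F (quadFormMinus (m - 1) F a b)) :=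
    IsNamed.mk' ⟨F, _, _, a, b, rfl, hab, ⟨MulEquiv.refl _⟩⟩ hc (ominus_eq hm hab)
  refine cycP_of_goodP (H953.Dp.ominus_row hN hm hr.1 ⟨_, ?_, rfl⟩)
  rcases hr.2 with ⟨h1, h2, h3⟩ | ⟨h1, h2, h3⟩
  · exact ⟨by omega, Or.inl ⟨h1, h2, h3⟩⟩
  · exact ⟨by omega, Or.inr ⟨h1, h2, h3⟩⟩

/-- **All classical groups**: a missing power of a large prime gives `GoodD 144`. -/
theorem good_classical {g : Grp} {T : Type u} [Group T] [Finite T]
    [IsSimpleGroup T] (hna : ¬ IsMulCommutative T) (hT : IsNamed g T) (hg : ClName g) {M : Subgroup T} (hM : M ≠ ⊤)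
    (h : BigPow g M) : GoodD 144 T M := by
  have hna' : ∀ {X : Type} [Group X], (T ≃* X) → ¬ IsMulCommutative X := by
    intro X _ e hX
    apply hna
    refine ⟨⟨fun a b => e.injective ?_⟩⟩
    rw [map_mul, map_mul]
    exact hX.is_comm.comm _ _
  have hs' : ∀ {X : Type} [Group X], (T ≃* X) → IsSimpleGroup X := by
    intro X _ e
    exact e.symm.isSimpleGroup
  have hc := hT.cond
  cases g with
  | psl n q =>
    obtain ⟨F, _, _, rfl, ⟨e⟩⟩ := hT.real
    exact (H491.Dp.good_psl hg (map_ne_top e hM) (BigPow.congr e h)).congr e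
  | psu n q =>
    obtain ⟨F, _, _, hF, ⟨e⟩⟩ := hT.real
    exact (H491.Dp.good_psu hF hg (map_ne_top e hM) (BigPow.congr e h)).congr e
  | psp m q =>
    obtain ⟨F, _, _, rfl, ⟨e⟩⟩ := hT.real
    exact (good_psp hg (hs' e) (hna' e) (map_ne_top e hM) (fun u hu => cyc_psp rfl hg hc hu)
      (BigPow.congr e h)).congr e
  | oodd m q =>
    obtain ⟨F, _, _, rfl, ⟨e⟩⟩ := hT.real
    exact (good_oodd hg hc.2.1 (hs' e) (hna' e) (map_ne_top e hM) (fun u hu => cyc_oodd rfl hg hc hu)
      (BigPow.congr e h)).congr e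
  | oplus m q =>
    obtain ⟨F, _, _, rfl, ⟨e⟩⟩ := hT.real
    exact (good_oplus hg (hs' e) (hna' e) (map_ne_top e hM) (fun u hu => cyc_oplus rfl hg hc hu)
      (BigPow.congr e h)).congr e
  | ominus m q =>
    obtain ⟨F, _, _, a, b, rfl, hab, ⟨e⟩⟩ := hT.real
    exact (good_ominus hg a b hab (hs' e) (hna' e) (map_ne_top e hM) (fun u hu => cyc_ominus rfl hg hab hc hu)
      (BigPow.congr e h)).congr e
  | _ => exact hg.elim

/-- `|Out T| dim ≤ 144 log |T : M|` for the symplectic and orthogonal groups -/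
theorem out_dim {g : Grp} {T : Type u} [Group T] [Finite T]
    [IsSimpleGroup T] (hna : ¬ IsMulCommutative T) (hT : IsNamed g T) (hg : ClName g)
    (hl : (∀ n q, g ≠ .psl n q) ∧ ∀ n q, g ≠ .psu n q) {M : Subgroup T} (hM : M ≠ ⊤) :
    (outCard T : ℝ) * ((H192.Dp.dm g : ℕ) : ℝ) ≤ 144 * Real.log (M.index : ℝ) := by
  have hna' : ∀ {X : Type} [Group X], (T ≃* X) → ¬ IsMulCommutative X := by
    intro X _ e hX
    apply hna
    refine ⟨⟨fun a b => e.injective ?_⟩⟩
    rw [map_mul, map_mul]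
    exact hX.is_comm.comm _ _
  have hs' : ∀ {X : Type} [Group X], (T ≃* X) → IsSimpleGroup X := by
    intro X _ e
    exact e.symm.isSimpleGroup
  have hc := hT.cond
  cases g with
  | psl n q => exact absurd rfl (hl.1 n q)
  | psu n q => exact absurd rfl (hl.2 n q)
  | psp m q =>
    obtain ⟨F, _, _, rfl, ⟨e⟩⟩ := hT.real
    rw [outCard_congr e, ← index_map_equiv' e M]
    exact out_dim_psp hg (hs' e) (hna' e) (map_ne_top e hM)
  | oodd m q =>
    obtain ⟨F, _, _, rfl, ⟨e⟩⟩ := hT.real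
    rw [outCard_congr e, ← index_map_equiv' e M]
    exact out_dim_oodd hg hc.2.1 (hs' e) (hna' e) (map_ne_top e hM)
  | oplus m q =>
    obtain ⟨F, _, _, rfl, ⟨e⟩⟩ := hT.real
    rw [outCard_congr e, ← index_map_equiv' e M]
    exact out_dim_oplus hg (hs' e) (hna' e) (map_ne_top e hM)
  | ominus m q =>
    obtain ⟨F, _, _, a, b, rfl, hab, ⟨e⟩⟩ := hT.real
    rw [outCard_congr e, ← index_map_equiv' e M]
    exact out_dim_ominus hg a b hab (hs' e) (hna' e) (map_ne_top e hM)
  | _ => exact hg.elim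

end Cfsg.Agent.H545.Dr
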