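import Cfsg.Agent.H545.Dr.Classical
import Cfsg.Agent.H851.Dg.NumT

/-!
# S5734: the classical groups, final form (helper545)

* `bigU_dvd` : the large primes divide the order;
* `classical` : `Out gT R ∨ BigPow gT R` gives `GoodD ∨ Spec`, with the row `TwoRow` (task 2834) as hypothesis.
-/

set_option autoImplicit false
set_option linter.unusedSectionVars false
set_option linter.style.haveILetI false

namespace Cfsg.Agent.H545.Dr

open Cfsg Cfsg.Agent.H851.Dg Cfsg.Agent.OrdDiv Cfsg.Agent.H436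
open Cfsg.Agent.H278.El.AltNum (dimOf)

/-- the row for the primes with Sylow subgroups of rank two -/
def TwoRow : Prop := ∃ c : ℝ, 0 < c ∧ ∀ (gT : Grp) (T : Type) [Group T] [Finite T] (_ : IsNamed gT T)
  (_ : 5 ≤ dimOf gT) (u : ℕ) (_ : TwoU gT u) (R : Subgroup T) (_ : CycP u R),
  c * (Nat.card T : ℝ) ≤ dimOf gT * nd R

/-- large primes divide the order -/
theorem bigU_dvd {g : Grp} {T : Type} [Group T] [Finite T] (hT : IsNamed g T) (hg : BigCl g) {r : ℕ}
    (hr : BigU g r) : r ∣ Nat.card T := by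
  have hc := hT.cond
  cases g with
  | psl n q =>
    obtain ⟨F, _, _, rfl, ⟨e⟩⟩ := hT.real
    haveI := H934.OutCl.finite_psl (F := F) n
    have hg' : 4 ≤ n := hg
    rw [Nat.card_congr e.toEquiv]
    obtain ⟨h1, h2, h3⟩ := hr
    exact (H491.Dp.PSL.good (by omega) h1 ⟨_, by omega, h2, h3, rfl⟩).dvd
  | psu n q =>
    obtain ⟨F, _, _, hF, ⟨e⟩⟩ := hT.real
    have hg' : 4 ≤ n := hg
    rw [Nat.card_congr e.toEquiv]
    obtain ⟨h1, h2, h3⟩ := hr
    exact (H491.Dp.PSU.good hF (by omega) (by omega) h1 ⟨_, by omega, h2, h3, rfl⟩).dvd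
  | psp m q =>
    have hg' : 3 ≤ m := hg
    refine (H953.Dp.psp_row hT hg hr.1 ⟨_, ?_, rfl⟩).dvd
    rcases hr.2 with ⟨h1, h2, h3⟩ | ⟨h1, h2, h3⟩
    · exact ⟨by omega, Or.inl ⟨h1, h2, h3⟩⟩
    · refine ⟨?_, Or.inr ⟨h1, h2, h3⟩⟩
      obtain ⟨k, hk⟩ := h1
      omega
  | oodd m q =>
    have hg' : 3 ≤ m := hg
    refine (H953.Dp.oodd_row hT hg hr.1 ⟨_, ?_, rfl⟩).dvd
    rcases hr.2 with ⟨h1, h2, h3⟩ | ⟨h1, h2, h3⟩
    · exact ⟨by omega, Or.inl ⟨h1, h2, h3⟩⟩
    · refine ⟨?_, Or.inr ⟨h1, h2, h3⟩⟩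
      obtain ⟨k, hk⟩ := h1
      omega
  | oplus m q =>
    have hg' : 4 ≤ m := hg
    refine (H953.Dp.oplus_row hT hg hr.1 ⟨_, ?_, rfl⟩).dvd
    rcases hr.2 with ⟨h1, h2, h3⟩ | ⟨h1, h2, h3⟩
    · exact ⟨by omega, Or.inl ⟨h1, h2, by omega⟩⟩
    · exact ⟨by omega, Or.inr ⟨h1, h2, h3⟩⟩
  | ominus m q =>
    have hg' : 4 ≤ m := hg
    refine (H953.Dp.ominus_row hT hg hr.1 ⟨_, ?_, rfl⟩).dvd
    rcases hr.2 with ⟨h1, h2, h3⟩ | ⟨h1, h2, h3⟩
    · exact ⟨by omega, Or.inl ⟨h1, h2, h3⟩⟩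
    · exact ⟨by omega, Or.inr ⟨h1, h2, h3⟩⟩
  | _ => exact hg.elim

theorem clName_of_bigCl {g : Grp} (hg : BigCl g) : ClName g := by
  cases g with
  | psl n q => have h : 4 ≤ n := hg; show 3 ≤ n; omega
  | psu n q => exact hg
  | psp m q => exact hg
  | oodd m q => exact hg
  | oplus m q => exact hg
  | ominus m q => exact hg
  | _ => exact hg.elim

theorem dm_eq_dimOf {g : Grp} (hg : BigCl g) : H192.Dp.dm g = dimOf g := by
  cases g with
  | psl n q => rfl
  | psu n q => rfl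
  | psp m q => rfl
  | oodd m q => rfl
  | oplus m q => rfl
  | ominus m q => rfl
  | _ => exact hg.elim

/-- **The classical groups.** -/
theorem classical (htwo : TwoRow) : ∃ C : ℝ, 0 < C ∧ ∀ (gT : Grp) (T : Type) [Group T] [Finite T] [IsSimpleGroup T],
    ¬ IsMulCommutative T → IsNamed gT T → BigCl gT → ∀ R : Subgroup T, R ≠ ⊤ → (Cfsg.Agent.H851.Dg.Out gT R ∨ BigPow gT R) →
    GoodD C T R ∨ Spec C T R := by
  obtain ⟨c, hc, htwo⟩ := htwo
  refine ⟨max 144 (144 / c), lt_max_of_lt_left (by norm_num), ?_⟩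
  intro gT T _ _ _ hna hT hg R hR h
  rcases h with (⟨u, hu, hd⟩ | ⟨u, hu, hcyc⟩) | h
  · left
    exact (good_classical hna hT (clName_of_bigCl hg) hR
      ⟨u, 1, hu, le_rfl, by rw [pow_one]; exact bigU_dvd hT hg hu, by rwa [pow_one]⟩).le (le_max_left _ _)
  · right
    have hl : (∀ n q, gT ≠ .psl n q) ∧ ∀ n q, gT ≠ .psu n q := by
      constructor
      · rintro n q rfl
        exact hu
      · rintro n q rfl
        exact hu
    have h1 := out_dim hna hT (clName_of_bigCl hg) hl hR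
    rw [dm_eq_dimOf hg] at h1
    have h5 : 5 ≤ dimOf gT := by
      cases gT with
      | psl n q => exact hu.elim
      | psu n q => exact hu.elim
      | psp m q => have h : 3 ≤ m := hg; show 5 ≤ 2 * m; omega
      | oodd m q => have h : 3 ≤ m := hg; show 5 ≤ 2 * m + 1; omega
      | oplus m q => have h : 4 ≤ m := hg; show 5 ≤ 2 * m; omega
      | ominus m q => exact hu.elim
      | _ => exact hg.elim
    exact (spec_of_nd hc h1 (htwo gT T hT h5 u hu R hcyc)).le (le_max_right _ _)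
  · left
    exact (good_classical hna hT (clName_of_bigCl hg) hR h).le (le_max_left _ _)

end Cfsg.Agent.H545.Dr
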