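import Cfsg.Agent.H545.Dr.Defs

/-!
# S5734: counting elements whose powers contain a given class of cyclic `u`-subgroups (helper545)

* `card_le_of_elt` : `x` of order `u ^ b` in `G`, Sylow `u`-subgroups of `C(x)` cyclic, no conjugate of `x` in `K`: then
  `|G| ≤ 2 f |NC K|`, `f` the number of conjugates of `x` in `⟨x⟩`.
-/

set_option autoImplicit false

namespace Cfsg.Agent.H545.Dr

universe u v

section count

variable {G : Type*} [Group G] [Finite G]

/-- In a finite cyclic group the subgroups are ordered by divisibility of the orders. -/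
theorem le_of_card_dvd {A : Type*} [Group A] [Finite A] [IsCyclic A] {H K : Subgroup A}
    (h : Nat.card H ∣ Nat.card K) : H ≤ K := by
  classical
  have := Fintype.ofFinite A
  have h1 : (Finset.univ.filter fun a : A => a ^ Nat.card K = 1).card ≤ Nat.card K :=
    IsCyclic.card_pow_eq_one_le Nat.card_pos
  have h2 : (K : Set A).toFinset ⊆ Finset.univ.filter fun a : A => a ^ Nat.card K = 1 := by
    intro a ha
    rw [Set.mem_toFinset] at ha
    rw [Finset.mem_filter]
    refine ⟨Finset.mem_univ _, ?_⟩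
    have h3 : (⟨a, ha⟩ : K) ^ Nat.card K = 1 := pow_card_eq_one'
    exact congrArg Subtype.val h3
  have h3 : (K : Set A).toFinset = Finset.univ.filter fun a : A => a ^ Nat.card K = 1 := by
    refine Finset.eq_of_subset_of_card_le h2 (h1.trans ?_)
    rw [Set.toFinset_card, ← Nat.card_eq_fintype_card]
    exact le_rfl
  intro a ha
  have h4 : a ∈ Finset.univ.filter fun a : A => a ^ Nat.card K = 1 := by
    rw [Finset.mem_filter]
    refine ⟨Finset.mem_univ _, ?_⟩
    have h5 : (⟨a, ha⟩ : H) ^ Nat.card K = 1 := orderOf_dvd_iff_pow_eq_one.1 ((orderOf_dvd_natCard _).trans h)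
    exact congrArg Subtype.val h5
  rw [← h3, Set.mem_toFinset] at h4
  exact h4

/-- In a cyclic group of prime power order the subgroups form a chain. -/
theorem zpowers_total {A : Type*} [Group A] [Finite A] [IsCyclic A] {u : ℕ} (hu : u.Prime) (hA : IsPGroup u A)
    (a b : A) : a ∈ Subgroup.zpowers b ∨ b ∈ Subgroup.zpowers a := by
  have := Fact.mk hu
  obtain ⟨i, hi⟩ := (IsPGroup.iff_card.1 (hA.to_subgroup (Subgroup.zpowers a)))
  obtain ⟨j, hj⟩ := (IsPGroup.iff_card.1 (hA.to_subgroup (Subgroup.zpowers b)))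
  rcases le_total i j with h | h
  · left
    have h1 : Subgroup.zpowers a ≤ Subgroup.zpowers b := le_of_card_dvd (by rw [hi, hj]; exact pow_dvd_pow u h)
    exact h1 (Subgroup.mem_zpowers a)
  · right
    have h1 : Subgroup.zpowers b ≤ Subgroup.zpowers a := le_of_card_dvd (by rw [hi, hj]; exact pow_dvd_pow u h)
    exact h1 (Subgroup.mem_zpowers b)

/-- `x` of order `u ^ b`, `g` commuting with `x`, `x ∉ ⟨g⟩`: then `x ∈ ⟨g x⟩`. -/
theorem mem_zpowers_mul {u b : ℕ} (hu : u.Prime) {x g : G} (hx : orderOf x = u ^ b) (hg : Commute g x)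
    (hcyc : ∀ P : Subgroup G, x ∈ P → (∀ y ∈ P, Commute y x) → IsPGroup u P → IsCyclic P)
    (h : x ∉ Subgroup.zpowers g) : x ∈ Subgroup.zpowers (g * x) := by
  have := Fact.mk hu
  -- the `u`-part of `g`
  obtain ⟨k, m, hm, hkm⟩ := Nat.exists_eq_pow_mul_and_not_dvd (orderOf_pos g).ne' u hu.ne_one
  set g₁ := g ^ m with hg₁
  have h1 : g₁ ^ u ^ k = 1 := by rw [hg₁, ← pow_mul, mul_comm, ← hkm, pow_orderOf_eq_one]
  have hc1 : Commute g₁ x := hg.pow_left m
  -- the group generated by `x` and `g₁`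
  have hcomm : ∀ y ∈ Subgroup.closure ({x, g₁} : Set G), ∀ z ∈ Subgroup.closure ({x, g₁} : Set G), Commute y z := by
    have h2 : ∀ y ∈ ({x, g₁} : Set G), ∀ z ∈ ({x, g₁} : Set G), y * z = z * y := by
      rintro y (rfl | rfl) z (rfl | rfl)
      · rfl
      · exact hc1.symm.eq
      · exact hc1.eq
      · rfl
    have h3 := Subgroup.isMulCommutative_closure h2
    intro y hy z hz
    have h4 := h3.is_comm.comm (⟨y, hy⟩ : Subgroup.closure ({x, g₁} : Set G)) ⟨z, hz⟩
    exact congrArg Subtype.val h4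
  set P := Subgroup.closure ({x, g₁} : Set G) with hP
  have hxP : x ∈ P := Subgroup.subset_closure (by simp)
  have hgP : g₁ ∈ P := Subgroup.subset_closure (by simp)
  have hPu : IsPGroup u P := by
    rintro ⟨y, hy⟩
    suffices hs : ∃ n, y ^ u ^ n = 1 by
      obtain ⟨n, hn⟩ := hs
      exact ⟨n, Subtype.ext hn⟩
    induction hy using Subgroup.closure_induction with
    | mem y hy =>
      rcases hy with rfl | rfl
      · exact ⟨b, by rw [← hx, pow_orderOf_eq_one]⟩
      · exact ⟨k, h1⟩
    | one => exact ⟨0, one_pow _⟩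
    | mul y z hy hz ihy ihz =>
      obtain ⟨n, hn⟩ := ihy
      obtain ⟨n', hn'⟩ := ihz
      refine ⟨n + n', ?_⟩
      rw [(hcomm y hy z hz).mul_pow, pow_add, pow_mul, hn, one_pow, mul_comm (u ^ n), pow_mul, hn', one_pow, mul_one]
    | inv y hy ihy =>
      obtain ⟨n, hn⟩ := ihy
      exact ⟨n, by rw [inv_pow, hn, inv_one]⟩
  have hPc : IsCyclic P := hcyc P hxP (fun y hy => hcomm y hy x hxP) hPu
  rcases zpowers_total hu hPu (⟨x, hxP⟩ : P) ⟨g₁, hgP⟩ with h5 | h5
  · exfalso
    apply h
    obtain ⟨j, hj⟩ := Subgroup.mem_zpowers_iff.1 h5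
    have h6 := congrArg Subtype.val hj
    have h7 : g₁ ^ j = x := h6
    rw [← h7]
    exact Subgroup.zpow_mem _ (Subgroup.pow_mem _ (Subgroup.mem_zpowers g) m) j
  · obtain ⟨j, hj⟩ := Subgroup.mem_zpowers_iff.1 h5
    have h6 : x ^ j = g₁ := congrArg Subtype.val hj
    -- `u ∣ j`
    have hj1 : (u : ℤ) ∣ j := by
      by_contra hnd
      apply h
      have h7 : IsCoprime j ((u ^ b : ℕ) : ℤ) := by
        push_cast
        refine IsCoprime.pow_right ?_
        rw [isCoprime_comm]
        exact (Nat.prime_iff_prime_int.1 hu).coprime_iff_not_dvd.2 hnd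
      obtain ⟨s, t, hst⟩ := h7
      have h8 : x = (x ^ j) ^ s := by
        rw [← zpow_mul, mul_comm j s]
        have h9 : x ^ (s * j + t * ((u ^ b : ℕ) : ℤ)) = x := by rw [hst, zpow_one]
        rw [zpow_add, mul_comm t, zpow_mul x ((u ^ b : ℕ) : ℤ) t, zpow_natCast, ← hx, pow_orderOf_eq_one,
          one_zpow, mul_one] at h9
        exact h9.symm
      rw [h8, h6]
      exact Subgroup.zpow_mem _ (Subgroup.pow_mem _ (Subgroup.mem_zpowers g) m) s
    have h7 : (g * x) ^ m = x ^ (j + m) := by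
      rw [hg.mul_pow, ← hg₁, ← h6, zpow_add, zpow_natCast]
    have h8 : IsCoprime (j + m) ((u ^ b : ℕ) : ℤ) := by
      push_cast
      refine IsCoprime.pow_right ?_
      rw [isCoprime_comm]
      refine (Nat.prime_iff_prime_int.1 hu).coprime_iff_not_dvd.2 fun hd => hm ?_
      have h9 : (u : ℤ) ∣ (m : ℤ) := (dvd_add_right hj1).1 hd
      exact_mod_cast h9
    obtain ⟨s, t, hst⟩ := h8
    have h9 : x = ((g * x) ^ m) ^ s := by
      rw [h7, ← zpow_mul, mul_comm (j + m) s]
      have h10 : x ^ (s * (j + m) + t * ((u ^ b : ℕ) : ℤ)) = x := by rw [hst, zpow_one]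
      rw [zpow_add, mul_comm t, zpow_mul x ((u ^ b : ℕ) : ℤ) t, zpow_natCast, ← hx, pow_orderOf_eq_one,
        one_zpow, mul_one] at h10
      exact h10.symm
    have h11 : ((g * x) ^ m) ^ s ∈ Subgroup.zpowers (g * x) :=
      Subgroup.zpow_mem _ (Subgroup.pow_mem _ (Subgroup.mem_zpowers (g * x)) m) s
    rwa [← h9] at h11

/-- the conjugates of `x` in `⟨x⟩` -/
noncomputable def fus (x : G) : ℕ := Nat.card {y : G // y ∈ Subgroup.zpowers x ∧ IsConj x y}

omit [Finite G] in
theorem fus_conj (x h : G) : fus (h * x * h⁻¹) = fus x := by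
  refine Nat.card_congr (Equiv.symm ((MulAut.conj h).toEquiv.subtypeEquiv fun y => ?_))
  have h1 : (MulAut.conj h).toEquiv y = h * y * h⁻¹ := rfl
  rw [h1]
  refine and_congr ?_ ?_
  · constructor
    · intro hy
      obtain ⟨j, hj⟩ := Subgroup.mem_zpowers_iff.1 hy
      refine Subgroup.mem_zpowers_iff.2 ⟨j, ?_⟩
      rw [conj_zpow, hj]
    · intro hy
      obtain ⟨j, hj⟩ := Subgroup.mem_zpowers_iff.1 hy
      refine Subgroup.mem_zpowers_iff.2 ⟨j, ?_⟩
      rw [conj_zpow] at hj
      exact mul_left_cancel (mul_right_cancel hj)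
  · constructor
    · intro hy
      exact ((isConj_iff.2 ⟨h, rfl⟩ : IsConj x (h * x * h⁻¹)).symm.trans hy).trans (isConj_iff.2 ⟨h, rfl⟩)
    · intro hy
      exact ((isConj_iff.2 ⟨h, rfl⟩ : IsConj x (h * x * h⁻¹)).trans hy).trans
        (isConj_iff.2 ⟨h, rfl⟩ : IsConj y (h * y * h⁻¹)).symm

/-- elements `z`, `z'` of `⟨g⟩` of the same order generate the same subgroup -/
theorem mem_zpowers_of_order {g z z' : G} (hz : z ∈ Subgroup.zpowers g) (hz' : z' ∈ Subgroup.zpowers g)
    (h : orderOf z' ∣ orderOf z) : z' ∈ Subgroup.zpowers z := by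
  have h1 : Subgroup.zpowers (⟨z', hz'⟩ : Subgroup.zpowers g) ≤ Subgroup.zpowers (⟨z, hz⟩ : Subgroup.zpowers g) := by
    refine le_of_card_dvd ?_
    rw [Nat.card_zpowers, Nat.card_zpowers, Subgroup.orderOf_mk, Subgroup.orderOf_mk]
    exact h
  obtain ⟨j, hj⟩ := Subgroup.mem_zpowers_iff.1 (h1 (Subgroup.mem_zpowers _))
  exact Subgroup.mem_zpowers_iff.2 ⟨j, congrArg Subtype.val hj⟩

omit [Finite G] in
theorem orderOf_of_isConj {x z : G} (h : IsConj x z) : orderOf z = orderOf x := by
  obtain ⟨c, rfl⟩ := isConj_iff.1 h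
  exact orderOf_injective (MulAut.conj c).toMonoidHom (MulAut.conj c).injective x

/-- at least half of the elements of `C(x)` have `x` as a power -/
theorem card_centralizer_le {u b : ℕ} (hu : u.Prime) {x : G} (hx : orderOf x = u ^ b)
    (hcyc : ∀ P : Subgroup G, x ∈ P → (∀ y ∈ P, Commute y x) → IsPGroup u P → IsCyclic P) :
    Nat.card (Subgroup.centralizer ({x} : Set G)) ≤ 2 * Nat.card {g : G // x ∈ Subgroup.zpowers g} := by
  classical
  have := Fintype.ofFinite G
  set C := Subgroup.centralizer ({x} : Set G) with hC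
  have h1 : Nat.card {g : C // x ∉ Subgroup.zpowers (g : G)} ≤ Nat.card {g : G // x ∈ Subgroup.zpowers g} := by
    refine Nat.card_le_card_of_injective
      (fun g => ⟨(g : C) * x, mem_zpowers_mul hu hx ?_ hcyc g.2⟩) ?_
    · exact ((Subgroup.mem_centralizer_singleton_iff).1 (g : C).2 : _)
    · intro g g' h
      have h2 := congrArg Subtype.val h
      have h3 : ((g : C) : G) = ((g' : C) : G) := mul_right_cancel h2
      exact Subtype.ext (Subtype.ext h3)
  have h2 : Nat.card {g : C // ¬ x ∉ Subgroup.zpowers (g : G)} ≤ Nat.card {g : G // x ∈ Subgroup.zpowers g} := by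
    refine Nat.card_le_card_of_injective (fun g => ⟨((g : C) : G), not_not.1 g.2⟩) ?_
    intro g g' h
    have h5 : ((g : C) : G) = ((g' : C) : G) := congrArg (fun t : {g : G // x ∈ Subgroup.zpowers g} => t.1) h
    exact Subtype.ext (Subtype.ext h5)
  have h3 : Nat.card C = Nat.card {g : C // x ∉ Subgroup.zpowers (g : G)} +
      Nat.card {g : C // ¬ x ∉ Subgroup.zpowers (g : G)} := by
    rw [← Nat.card_sum]
    exact Nat.card_congr (Equiv.sumCompl _).symm
  omega

/-- **The counting lemma.** -/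
theorem card_le_of_elt (K : Subgroup G) {u b : ℕ} (hu : u.Prime) {x : G} (hx : orderOf x = u ^ b)
    (hcyc : ∀ P : Subgroup G, x ∈ P → (∀ y ∈ P, Commute y x) → IsPGroup u P → IsCyclic P)
    (hK : ∀ g : G, g * x * g⁻¹ ∉ K) : Nat.card G ≤ 2 * (fus x * Nat.card (NC K)) := by
  classical
  have := Fintype.ofFinite G
  -- pairs `(z, g)`, `z` conjugate to `x`, `z ∈ ⟨g⟩`
  let A := {a : G × G // IsConj x a.1 ∧ a.1 ∈ Subgroup.zpowers a.2}
  -- upper bound
  have h1 : Nat.card A ≤ fus x * Nat.card (NC K) := by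
    let e : A ≃ Σ g : G, {z : G // IsConj x z ∧ z ∈ Subgroup.zpowers g} :=
      { toFun := fun a => ⟨a.1.2, ⟨a.1.1, a.2⟩⟩
        invFun := fun a => ⟨(a.2.1, a.1), a.2.2⟩
        left_inv := fun a => rfl
        right_inv := fun a => rfl }
    rw [Nat.card_congr e, Nat.card_sigma]
    have h2 : ∀ g : G, Nat.card {z : G // IsConj x z ∧ z ∈ Subgroup.zpowers g} ≤ if g ∈ NC K then fus x else 0 := by
      intro g
      by_cases hne : Nonempty {z : G // IsConj x z ∧ z ∈ Subgroup.zpowers g}
      · obtain ⟨z, hz1, hz2⟩ := hne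
        obtain ⟨c, rfl⟩ := isConj_iff.1 hz1
        have hg : g ∈ NC K := by
          intro y hy
          obtain ⟨j, hj⟩ := Subgroup.mem_zpowers_iff.1 hz2
          apply hK (y * c)
          have h3 : y * c * x * (y * c)⁻¹ = (y * g * y⁻¹) ^ j := by
            rw [conj_zpow, hj]; group
          rw [h3]
          exact K.zpow_mem hy j
        rw [if_pos hg, ← fus_conj x c]
        refine Nat.card_le_card_of_injective (fun z => ⟨z.1, ?_, ?_⟩) ?_
        · refine mem_zpowers_of_order hz2 z.2.2 ?_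
          rw [orderOf_of_isConj z.2.1, orderOf_of_isConj hz1]
        · exact hz1.symm.trans z.2.1
        · intro z z' h
          have h5 := congrArg Subtype.val h
          exact Subtype.ext h5
      · rw [not_nonempty_iff] at hne
        rw [Nat.card_of_isEmpty]
        exact Nat.zero_le _
    calc ∑ g : G, Nat.card {z : G // IsConj x z ∧ z ∈ Subgroup.zpowers g}
        ≤ ∑ g : G, (if g ∈ NC K then fus x else 0) := Finset.sum_le_sum fun g _ => h2 g
      _ = fus x * Nat.card (NC K) := by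
        rw [← Finset.sum_filter, Finset.sum_const, smul_eq_mul, mul_comm]
        congr 1
        rw [Nat.card_eq_fintype_card, Fintype.card_subtype]
  -- lower bound
  have h2 : Nat.card G ≤ 2 * Nat.card A := by
    let e : A ≃ Σ z : {z : G // IsConj x z}, {g : G // z.1 ∈ Subgroup.zpowers g} :=
      { toFun := fun a => ⟨⟨a.1.1, a.2.1⟩, ⟨a.1.2, a.2.2⟩⟩
        invFun := fun a => ⟨(a.1.1, a.2.1), ⟨a.1.2, a.2.2⟩⟩
        left_inv := fun a => rfl
        right_inv := fun a => rfl }
    rw [Nat.card_congr e, Nat.card_sigma]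
    have h3 : ∀ z : {z : G // IsConj x z}, Nat.card {g : G // z.1 ∈ Subgroup.zpowers g} =
        Nat.card {g : G // x ∈ Subgroup.zpowers g} := by
      rintro ⟨z, hz⟩
      obtain ⟨c, rfl⟩ := isConj_iff.1 hz
      refine Nat.card_congr (Equiv.symm ((MulAut.conj c).toEquiv.subtypeEquiv fun g => ?_))
      have h4 : (MulAut.conj c).toEquiv g = c * g * c⁻¹ := rfl
      rw [h4]
      constructor
      · intro hy
        obtain ⟨j, hj⟩ := Subgroup.mem_zpowers_iff.1 hy
        exact Subgroup.mem_zpowers_iff.2 ⟨j, by rw [conj_zpow, hj]⟩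
      · intro hy
        obtain ⟨j, hj⟩ := Subgroup.mem_zpowers_iff.1 hy
        rw [conj_zpow] at hj
        exact Subgroup.mem_zpowers_iff.2 ⟨j, mul_left_cancel (mul_right_cancel hj)⟩
    rw [Finset.sum_congr rfl fun z _ => h3 z, Finset.sum_const, smul_eq_mul, Finset.card_univ]
    have h5 : Fintype.card {z : G // IsConj x z} * Nat.card (Subgroup.centralizer ({x} : Set G)) = Nat.card G := by
      have h6 := MulAction.card_orbit_mul_card_stabilizer_eq_card_group (ConjAct G) x
      rw [← Nat.card_eq_fintype_card, ← Nat.card_eq_fintype_card, ← Nat.card_eq_fintype_card,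
        ← Subgroup.nat_card_centralizer_nat_card_stabilizer] at h6
      have h7 : Nat.card (ConjAct G) = Nat.card G := Nat.card_congr ConjAct.ofConjAct.toEquiv
      rw [h7] at h6
      rw [← h6]
      congr 1
      rw [← Nat.card_eq_fintype_card]
      refine Nat.card_congr (Equiv.subtypeEquivRight fun z => ?_)
      rw [ConjAct.mem_orbit_conjAct]
      exact isConj_comm
    have h6 := card_centralizer_le hu hx hcyc
    calc Nat.card G = Fintype.card {z : G // IsConj x z} * Nat.card (Subgroup.centralizer ({x} : Set G)) := h5.symm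
      _ ≤ Fintype.card {z : G // IsConj x z} * (2 * Nat.card {g : G // x ∈ Subgroup.zpowers g}) :=
        Nat.mul_le_mul_left _ h6
      _ = _ := by ring
  calc Nat.card G ≤ 2 * Nat.card A := h2
    _ ≤ _ := Nat.mul_le_mul_left 2 h1

end count

end Cfsg.Agent.H545.Dr
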