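import Mathlib

/-!
# S5734: the proportion of derangements in primitive groups (helper545)

Interface. `G` a finite group, `K` a subgroup.

* `NC K` : the elements of `G` lying in no conjugate of `K` (the derangements of `G` on `G / K`).
* `AS ε T` : for every almost simple group `H` with socle `S ≅ T` and every subgroup `K` with `S K = H`, `S ≰ K`,
  the proportion of `NC K` is at least `ε / log |H : K|`.
* `outCard T` : the order of `Out T`.
* `fusCard x` : the number of elements of `⟨x⟩` which are images of `x` under automorphisms.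
* `GoodPP C T M` : a cyclic subgroup of prime power order `u ^ b` of `T` (with cyclic Sylow `u`-subgroups, `u` prime to
  `|Out T|`) with no element of order `u ^ b` in `M`, and few automorphic images of the generator in it.
* `Spec C T M` : direct bound inside `T`.
* `Good C T M` : one of the two.
-/

set_option autoImplicit false

namespace Cfsg.Agent.H545.Dr

universe u v

/-- The elements of `G` lying in no conjugate of `K`. -/
def NC {G : Type*} [Group G] (K : Subgroup G) : Set G := {g | ∀ x : G, x * g * x⁻¹ ∉ K}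

/-- The bound for the almost simple groups with socle `T`. -/
def AS (ε : ℝ) (T : Type u) [Group T] : Prop :=
  ∀ (H : Type v) [Group H] [Finite H] (S : Subgroup H), S.Normal → Nonempty (S ≃* T) →
    Subgroup.centralizer (S : Set H) = ⊥ → ∀ K : Subgroup H, ¬ S ≤ K → S ⊔ K = ⊤ →
      ε * (Nat.card H : ℝ) ≤ Real.log (K.index : ℝ) * (Nat.card (NC K) : ℝ)

/-- The order of the outer automorphism group. -/
noncomputable def outCard (T : Type*) [Group T] : ℕ := (MulAut.conj (G := T)).range.index

/-- The number of automorphic images of `x` in `⟨x⟩`. -/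
noncomputable def fusCard {T : Type*} [Group T] (x : T) : ℕ :=
  Nat.card {y : T // y ∈ Subgroup.zpowers x ∧ ∃ α : MulAut T, α x = y}

/-- A good prime power for `M < T`. -/
def GoodPP (C : ℝ) (T : Type*) [Group T] (M : Subgroup T) : Prop :=
  ∃ (u b : ℕ) (x : T), u.Prime ∧ b ≠ 0 ∧ orderOf x = u ^ b ∧ (∀ P : Sylow u T, IsCyclic P) ∧ ¬ u ∣ outCard T ∧
    (∀ y ∈ M, orderOf y ≠ u ^ b) ∧ (fusCard x : ℝ) ≤ C * Real.log (M.index : ℝ)

/-- The direct bound inside `T`. -/
def Spec (C : ℝ) (T : Type*) [Group T] (M : Subgroup T) : Prop :=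
  (outCard T : ℝ) * (Nat.card T : ℝ) ≤ C * Real.log (M.index : ℝ) * (Nat.card (NC M) : ℝ)

/-- `M < T` is good. -/
def Good (C : ℝ) (T : Type*) [Group T] (M : Subgroup T) : Prop := GoodPP C T M ∨ Spec C T M

/-! ### Monotonicity -/

section

variable {T : Type*} [Group T]

theorem NC.mono {M N : Subgroup T} (h : M ≤ N) : NC N ⊆ NC M := fun _ hg x hx => hg x (h hx)

theorem log_index_le [Finite T] {M N : Subgroup T} (h : M ≤ N) :
    Real.log (N.index : ℝ) ≤ Real.log (M.index : ℝ) := by
  have h1 : N.index ≤ M.index := Nat.le_of_dvd (Nat.pos_of_ne_zero Subgroup.index_ne_zero_of_finite)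
    (Subgroup.index_dvd_of_le h)
  have h2 : 0 < N.index := Nat.pos_of_ne_zero Subgroup.index_ne_zero_of_finite
  exact Real.log_le_log (by exact_mod_cast h2) (by exact_mod_cast h1)

theorem log_index_nonneg (M : Subgroup T) : 0 ≤ Real.log (M.index : ℝ) := Real.log_natCast_nonneg _

theorem GoodPP.mono [Finite T] {C : ℝ} (hC : 0 ≤ C) {M N : Subgroup T} (h : M ≤ N) (hN : GoodPP C T N) :
    GoodPP C T M := by
  obtain ⟨u, b, x, h1, h2, h3, h4, h5, h6, h7⟩ := hN
  exact ⟨u, b, x, h1, h2, h3, h4, h5, fun y hy => h6 y (h hy),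
    h7.trans (mul_le_mul_of_nonneg_left (log_index_le h) hC)⟩

theorem Spec.mono [Finite T] {C : ℝ} (hC : 0 ≤ C) {M N : Subgroup T} (h : M ≤ N) (hN : Spec C T N) :
    Spec C T M := by
  unfold Spec at *
  refine hN.trans ?_
  have h1 : (Nat.card (NC N) : ℝ) ≤ Nat.card (NC M) := by
    exact_mod_cast Nat.card_mono (Set.toFinite _) (NC.mono h)
  exact mul_le_mul (mul_le_mul_of_nonneg_left (log_index_le h) hC) h1 (Nat.cast_nonneg _)
    (mul_nonneg hC (log_index_nonneg M))

theorem Good.mono [Finite T] {C : ℝ} (hC : 0 ≤ C) {M N : Subgroup T} (h : M ≤ N) (hN : Good C T N) : Good C T M :=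
  hN.imp (GoodPP.mono hC h) (Spec.mono hC h)

theorem GoodPP.le {C D : ℝ} (hCD : C ≤ D) {M : Subgroup T} (h : GoodPP C T M) : GoodPP D T M := by
  obtain ⟨u, b, x, h1, h2, h3, h4, h5, h6, h7⟩ := h
  exact ⟨u, b, x, h1, h2, h3, h4, h5, h6, h7.trans (mul_le_mul_of_nonneg_right hCD (log_index_nonneg M))⟩

theorem Spec.le {C D : ℝ} (hCD : C ≤ D) {M : Subgroup T} (h : Spec C T M) : Spec D T M := by
  unfold Spec at *
  exact h.trans (mul_le_mul_of_nonneg_right (mul_le_mul_of_nonneg_right hCD (log_index_nonneg M))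
    (Nat.cast_nonneg _))

theorem Good.le {C D : ℝ} (hCD : C ≤ D) {M : Subgroup T} (h : Good C T M) : Good D T M :=
  h.imp (GoodPP.le hCD) (Spec.le hCD)

/-- It is enough to consider the maximal subgroups. -/
theorem good_of_coatom [Finite T] {C : ℝ} (hC : 0 ≤ C) (h : ∀ M : Subgroup T, IsCoatom M → Good C T M) (M : Subgroup T)
    (hM : M ≠ ⊤) : Good C T M := by
  obtain ⟨N, hN, hMN⟩ := (eq_top_or_exists_le_coatom M).resolve_left hM
  exact (h N hN).mono hC hMN

end

end Cfsg.Agent.H545.Dr
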