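import Cfsg.Agent.H545.Dr.Count

/-!
# S5734: from the simple group to the almost simple groups (helper545)

* `NC_nonempty` : a proper subgroup misses a conjugacy class.
* `index_dvd_outCard` : `|H : S|` divides `|Out T|`.
* `as_of_good` : **the engine**: all proper subgroups of `T` good gives `AS (1 / (2 C)) T`.
* `as_of_card_le` : finitely many `T` do not matter.
* `as_of_eventually` : `Good C T M` for all large `T` of a family gives `AS` for the whole family.
-/

set_option autoImplicit false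
set_option linter.unusedSectionVars false
set_option linter.style.haveILetI false

namespace Cfsg.Agent.H545.Dr

universe u v w

section

variable {H : Type v} [Group H] [Finite H] {S K : Subgroup H}

/-- **Jordan**: a proper subgroup misses a conjugacy class. -/
theorem NC_nonempty (hK : K ≠ ⊤) : (NC K).Nonempty := by
  classical
  have := Fintype.ofFinite H
  by_contra hne
  rw [Set.not_nonempty_iff_eq_empty] at hne
  have hfix : ∀ g : H, 1 ≤ Nat.card (MulAction.fixedBy (H ⧸ K) g) := by
    intro g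
    have hg : g ∉ NC K := by rw [hne]; exact Set.notMem_empty g
    unfold NC at hg
    rw [Set.mem_ofPred_eq, not_forall] at hg
    obtain ⟨x, hx⟩ := hg
    rw [not_not] at hx
    have : Nonempty (MulAction.fixedBy (H ⧸ K) g) := by
      refine ⟨⟨((x⁻¹ : H) : H ⧸ K), ?_⟩⟩
      rw [MulAction.mem_fixedBy, MulAction.Quotient.smul_coe, QuotientGroup.eq, smul_eq_mul, ← inv_mem_iff]
      have h1 : ((g * x⁻¹)⁻¹ * x⁻¹)⁻¹ = x * g * x⁻¹ := by group
      rw [h1]
      exact hx
    exact Nat.card_pos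
  have h2 : 2 ≤ Nat.card (MulAction.fixedBy (H ⧸ K) (1 : H)) := by
    rw [MulAction.fixedBy_one_eq_univ, Nat.card_univ]
    have h3 : Nat.card (H ⧸ K) ≠ 1 := fun h => hK (Subgroup.index_eq_one.1 h)
    have h4 : 0 < Nat.card (H ⧸ K) := Nat.card_pos
    omega
  have h5 := MulAction.sum_card_fixedBy_eq_card_orbits_mul_card_group H (H ⧸ K)
  have h6 : Fintype.card (Quotient (MulAction.orbitRel H (H ⧸ K))) = 1 := by
    rw [Fintype.card_eq_one_iff_nonempty_unique]
    have h7 : Subsingleton (Quotient (MulAction.orbitRel H (H ⧸ K))) := by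
      rw [← MulAction.pretransitive_iff_subsingleton_quotient]
      infer_instance
    exact ⟨⟨⟨Quotient.mk'' ((1 : H) : H ⧸ K)⟩, fun a => Subsingleton.elim _ _⟩⟩
  rw [h6, one_mul] at h5
  have h8 : ∑ g : H, (1 : ℕ) < ∑ g : H, Fintype.card (MulAction.fixedBy (H ⧸ K) g) := by
    refine Finset.sum_lt_sum (fun g _ => ?_) ⟨1, Finset.mem_univ _, ?_⟩
    · rw [← Nat.card_eq_fintype_card]; exact hfix g
    · rw [← Nat.card_eq_fintype_card]; exact h2
  rw [h5, Finset.sum_const, smul_eq_mul, mul_one, Finset.card_univ] at h8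
  exact lt_irrefl _ h8

/-- `|H : K| = |S : S ∩ K|`. -/
theorem relIndex_eq (hS : S.Normal) (hsup : S ⊔ K = ⊤) : K.relIndex S = K.index := by
  have h1 : S.relIndex K = S.index := by
    rw [← Subgroup.relIndex_sup_right (H := K) (K := S), sup_comm, hsup, Subgroup.relIndex_top_right]
  have h2 : (S ⊓ K).relIndex S * S.index = (S ⊓ K).index := Subgroup.relIndex_mul_index inf_le_left
  have h3 : (S ⊓ K).relIndex K * K.index = (S ⊓ K).index := Subgroup.relIndex_mul_index inf_le_right
  rw [Subgroup.inf_relIndex_left] at h2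
  rw [Subgroup.inf_relIndex_right, h1] at h3
  have h4 : 0 < S.index := Nat.pos_of_ne_zero Subgroup.index_ne_zero_of_finite
  have h5 : S.index * K.relIndex S = S.index * K.index := by rw [h3, ← h2, mul_comm]
  exact Nat.eq_of_mul_eq_mul_left h4 h5

variable {T : Type u} [Group T] [Finite T]

theorem inn_normal : ((MulAut.conj (G := T)).range).Normal := by
  refine ⟨?_⟩
  rintro _ ⟨t, rfl⟩ α
  refine ⟨α t, ?_⟩
  ext y
  simp [MulAut.mul_apply, MulAut.conj_apply]

/-- the action of `H` on its normal subgroup `S ≅ T` -/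
noncomputable def act (hS : S.Normal) (e : S ≃* T) : H →* MulAut T :=
  (MulAut.congr e).toMonoidHom.comp (@MulAut.conjNormal H _ S hS)

theorem act_apply (hS : S.Normal) (e : S ≃* T) (h : H) (s : S) :
    act hS e h (e s) = e ⟨h * s * h⁻¹, hS.conj_mem s s.2 h⟩ := by
  have h1 : (@MulAut.conjNormal H _ S hS h) s = ⟨h * s * h⁻¹, hS.conj_mem s s.2 h⟩ := by
    apply Subtype.ext
    exact @MulAut.conjNormal_apply H _ S hS h s
  unfold act
  simp only [MonoidHom.comp_apply, MulEquiv.coe_toMonoidHom]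
  rw [← h1]
  simp [MulAut.congr]

theorem act_injective (hS : S.Normal) (e : S ≃* T) (hc : Subgroup.centralizer (S : Set H) = ⊥) :
    Function.Injective (act hS e) := by
  rw [injective_iff_map_eq_one]
  intro h hh
  have h1 : h ∈ Subgroup.centralizer (S : Set H) := by
    rw [Subgroup.mem_centralizer_iff]
    intro s hs
    have h2 := act_apply hS e h ⟨s, hs⟩
    rw [hh, MulAut.one_apply] at h2
    have h3 := congrArg Subtype.val (e.injective h2)
    have h4 : s = h * s * h⁻¹ := h3
    rw [eq_mul_inv_iff_mul_eq] at h4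
    exact h4
  rw [hc] at h1
  exact Subgroup.mem_bot.1 h1

theorem index_dvd_outCard (hS : S.Normal) (e : S ≃* T) (hc : Subgroup.centralizer (S : Set H) = ⊥) :
    S.index ∣ outCard T := by
  have hinn : ((MulAut.conj (G := T)).range).Normal := inn_normal
  have h1 : S = ((MulAut.conj (G := T)).range).comap (act hS e) := by
    ext h
    rw [Subgroup.mem_comap]
    constructor
    · intro hs
      refine ⟨e ⟨h, hs⟩, ?_⟩
      ext y
      obtain ⟨s, rfl⟩ := e.surjective y
      rw [act_apply, MulAut.conj_apply, ← map_mul, ← map_inv, ← map_mul]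
      rfl
    · rintro ⟨t, ht⟩
      obtain ⟨s, rfl⟩ := e.surjective t
      have h2 : act hS e h = act hS e (s : H) := by
        rw [← ht]
        ext y
        obtain ⟨s', rfl⟩ := e.surjective y
        rw [act_apply, MulAut.conj_apply, ← map_mul, ← map_inv, ← map_mul]
        rfl
      rw [act_injective hS e hc h2]
      exact s.2
  have h2 : S.index = ((MulAut.conj (G := T)).range).relIndex (act hS e).range := by
    conv_lhs => rw [h1]
    exact Subgroup.index_comap _ _
  rw [h2]
  exact Subgroup.relIndex_dvd_index_of_normal _ _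

/-- elements of `S` outside the `S`-conjugates of `S ∩ K` are outside the conjugates of `K` -/
theorem card_NC_le (hS : S.Normal) (e : S ≃* T) (hsup : S ⊔ K = ⊤) :
    Nat.card (NC ((K.subgroupOf S).map e.toMonoidHom)) ≤ Nat.card (NC K) := by
  refine Nat.card_le_card_of_injective
    (fun t => ⟨((e.symm t.1 : S) : H), ?_⟩) ?_
  · intro g hg
    -- `g = k s`
    have h1 : g ∈ S ⊔ K := by rw [hsup]; exact Subgroup.mem_top g
    haveI := hS
    obtain ⟨s, hs, k, hk, rfl⟩ := Subgroup.mem_sup_of_normal_left.1 h1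
    -- `s k = k (k⁻¹ s k)`
    set s' : S := ⟨k⁻¹ * s * k, by
      have := hS.conj_mem s hs k⁻¹
      rwa [inv_inv] at this⟩ with hs'
    have h2 : s * k = k * (s' : H) := by rw [hs']; group
    have h3 : (s' : H) * ((e.symm t.1 : S) : H) * (s' : H)⁻¹ ∈ K := by
      have h4 : (s' : H) * ((e.symm t.1 : S) : H) * (s' : H)⁻¹ =
          k⁻¹ * (s * k * ((e.symm t.1 : S) : H) * (s * k)⁻¹) * k := by
        rw [h2]; group
      rw [h4]
      exact K.mul_mem (K.mul_mem (K.inv_mem hk) hg) hk
    apply t.2 (e s')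
    refine ⟨s' * e.symm t.1 * s'⁻¹, ?_, ?_⟩
    · show s' * e.symm t.1 * s'⁻¹ ∈ K.subgroupOf S
      rw [Subgroup.mem_subgroupOf]
      exact h3
    · simp
  · intro t t' h
    have h1 : ((e.symm t.1 : S) : H) = ((e.symm t'.1 : S) : H) := Subtype.mk.inj h
    exact Subtype.ext (e.symm.injective (Subtype.ext h1))

/-- the images of `x` in `⟨x⟩` under the automorphisms in `D` -/
noncomputable def fusD (D : Subgroup (MulAut T)) (x : T) : ℕ :=
  Nat.card {y : T // y ∈ Subgroup.zpowers x ∧ ∃ α ∈ D, α x = y}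

/-- A good cyclic `u`-subgroup for `M < T`, relative to a group `D` of automorphisms. -/
def GoodD (C : ℝ) (T : Type*) [Group T] (M : Subgroup T) : Prop :=
  ∃ (D : Subgroup (MulAut T)) (u b : ℕ) (x : T), (MulAut.conj (G := T)).range ≤ D ∧ u.Prime ∧ b ≠ 0 ∧
    orderOf x = u ^ b ∧ (∀ P : Subgroup T, x ∈ P → (∀ y ∈ P, Commute y x) → IsPGroup u P → IsCyclic P) ∧
    ¬ u ∣ (MulAut.conj (G := T)).range.relIndex D ∧ (∀ α : MulAut T, α x ∉ M) ∧
    (D.index : ℝ) * (fusD D x : ℝ) ≤ C * Real.log (M.index : ℝ)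

theorem card_le_of_goodD {C : ℝ} (hS : S.Normal) (e : S ≃* T) (hc : Subgroup.centralizer (S : Set H) = ⊥)
    (hsup : S ⊔ K = ⊤) (h : GoodD C T ((K.subgroupOf S).map e.toMonoidHom)) :
    (Nat.card H : ℝ) ≤ 2 * C * Real.log (K.index : ℝ) * (Nat.card (NC K) : ℝ) := by
  obtain ⟨D, u, b, x, hD, hu, hb, hx, hcyc, hnd, hM, hfus⟩ := h
  have hinn : ((MulAut.conj (G := T)).range).Normal := inn_normal
  haveI := Fact.mk hu
  set H₀ := D.comap (act hS e) with hH₀
  -- `S ≤ H₀`
  have hSact : ∀ s : S, act hS e (s : H) = MulAut.conj (e s) := by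
    intro s
    ext y
    obtain ⟨s', rfl⟩ := e.surjective y
    rw [act_apply, MulAut.conj_apply, ← map_mul, ← map_inv, ← map_mul]
    rfl
  have hSH : S ≤ H₀ := by
    intro s hs
    rw [hH₀, Subgroup.mem_comap, hSact ⟨s, hs⟩]
    exact hD ⟨_, rfl⟩
  set x₀ : H₀ := ⟨((e.symm x : S) : H), hSH (e.symm x).2⟩ with hx₀
  -- an element of `H` normalising...
  have hconj : ∀ h : H, h * ((e.symm x : S) : H) * h⁻¹ ∈ S := fun h => hS.conj_mem _ (e.symm x).2 h
  have hconj2 : ∀ h : H, e ⟨h * ((e.symm x : S) : H) * h⁻¹, hconj h⟩ = act hS e h x := by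
    intro h
    have := act_apply hS e h (e.symm x)
    rw [e.apply_symm_apply] at this
    rw [this]
  have hord : orderOf x₀ = u ^ b := by
    rw [hx₀, Subgroup.orderOf_mk, Subgroup.orderOf_coe, ← hx]
    exact orderOf_injective e.symm.toMonoidHom e.symm.injective x
  -- `u`-subgroups of `C_{H₀}(x₀)` lie in `S`
  have hcyc₀ : ∀ P : Subgroup H₀, x₀ ∈ P → (∀ y ∈ P, Commute y x₀) → IsPGroup u P → IsCyclic P := by
    intro P hxP hPc hPu
    -- `P ≤ S`
    have hPS : ∀ y ∈ P, (y : H) ∈ S := by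
      intro y hy
      -- the image in `D / Inn`
      obtain ⟨k, hk⟩ := hPu ⟨y, hy⟩
      have hk' : y ^ u ^ k = 1 := congrArg Subtype.val hk
      have h1 : act hS e (y : H) ∈ D := y.2
      -- order of the image in the quotient
      set I := ((MulAut.conj (G := T)).range).subgroupOf D with hI
      haveI hIn : I.Normal := by rw [hI]; infer_instance
      set d : D := ⟨act hS e (y : H), h1⟩ with hd
      have h2 : (QuotientGroup.mk d : D ⧸ I) ^ u ^ k = 1 := by
        have h3 : d ^ u ^ k = 1 := by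
          apply Subtype.ext
          show (act hS e (y : H)) ^ u ^ k = 1
          rw [← map_pow, ← Subgroup.coe_pow, hk', Subgroup.coe_one, map_one]
        rw [← QuotientGroup.mk_pow, h3, QuotientGroup.mk_one]
      have h4 : orderOf (QuotientGroup.mk d : D ⧸ I) ∣ u ^ k := orderOf_dvd_of_pow_eq_one h2
      have h5 : orderOf (QuotientGroup.mk d : D ⧸ I) ∣ I.index := by
        rw [Subgroup.index]
        exact orderOf_dvd_natCard _
      have h6 : orderOf (QuotientGroup.mk d : D ⧸ I) = 1 := by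
        obtain ⟨j, hj, hj'⟩ := (Nat.dvd_prime_pow hu).1 h4
        rcases Nat.eq_zero_or_pos j with h7 | h7
        · rw [hj', h7, pow_zero]
        · exact absurd ((dvd_pow_self u h7.ne').trans (hj' ▸ h5)) hnd
      rw [orderOf_eq_one_iff, QuotientGroup.eq_one_iff, hI, Subgroup.mem_subgroupOf] at h6
      obtain ⟨t, ht⟩ := h6
      have h7 : act hS e (y : H) = act hS e ((e.symm t : S) : H) := by
        rw [hSact, e.apply_symm_apply]
        exact ht.symm
      rw [act_injective hS e hc h7]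
      exact (e.symm t).2
    -- transport to `T`
    let φ : P →* T :=
      { toFun := fun y => e ⟨((y : H₀) : H), hPS _ y.2⟩
        map_one' := by
          have : (⟨((1 : H₀) : H), hPS 1 (P.one_mem)⟩ : S) = 1 := Subtype.ext rfl
          show e ⟨((1 : H₀) : H), _⟩ = 1
          rw [this, map_one]
        map_mul' := fun y z => by
          show e ⟨(((y * z : P) : H₀) : H), _⟩ = e _ * e _
          rw [← map_mul]
          rfl }
    have hφ : Function.Injective φ := by
      intro y z hyz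
      have h1 := e.injective hyz
      have h2 := congrArg Subtype.val h1
      exact Subtype.ext (Subtype.ext h2)
    have h1 : IsCyclic φ.range := by
      refine hcyc φ.range ?_ ?_ ?_
      · refine ⟨⟨x₀, hxP⟩, ?_⟩
        show e ⟨((e.symm x : S) : H), _⟩ = x
        exact e.apply_symm_apply x
      · rintro _ ⟨y, rfl⟩
        have h2 : φ ⟨x₀, hxP⟩ = x := by
          show e ⟨((e.symm x : S) : H), _⟩ = x
          exact e.apply_symm_apply x
        rw [← h2]
        have h3 : Commute y (⟨x₀, hxP⟩ : P) := Subtype.ext (hPc y y.2)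
        exact h3.map φ
      · exact hPu.of_surjective φ.rangeRestrict φ.rangeRestrict_surjective
    exact isCyclic_of_injective (MonoidHom.ofInjective hφ).toMonoidHom (MonoidHom.ofInjective hφ).injective
  -- no conjugate in `K`
  have hK : ∀ g : H₀, g * x₀ * g⁻¹ ∉ K.subgroupOf H₀ := by
    intro g hg
    rw [Subgroup.mem_subgroupOf] at hg
    have h1 : (g : H) * ((e.symm x : S) : H) * (g : H)⁻¹ ∈ K := hg
    refine hM (act hS e (g : H)) ⟨⟨_, hconj (g : H)⟩, ?_, hconj2 g⟩
    exact h1
  have hmain := card_le_of_elt (K.subgroupOf H₀) hu hord hcyc₀ hK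
  -- `fus ≤ fusD`
  have hf : fus x₀ ≤ fusD D x := by
    refine Nat.card_le_card_of_injective (fun y => ⟨e ⟨((y.1 : H₀) : H), ?_⟩, ?_, ?_⟩) ?_
    · obtain ⟨g, hg⟩ := isConj_iff.1 y.2.2
      rw [← hg]
      exact hconj (g : H)
    · obtain ⟨j, hj⟩ := Subgroup.mem_zpowers_iff.1 y.2.1
      refine Subgroup.mem_zpowers_iff.2 ⟨j, ?_⟩
      have h1 : x = e (e.symm x) := (e.apply_symm_apply x).symm
      conv_lhs => rw [h1]
      rw [← map_zpow]
      congr 1
      apply Subtype.ext
      have h2 := congrArg (fun z : H₀ => (z : H)) hj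
      exact h2
    · obtain ⟨g, hg⟩ := isConj_iff.1 y.2.2
      refine ⟨act hS e (g : H), g.2, ?_⟩
      rw [← hconj2]
      congr 1
      apply Subtype.ext
      exact congrArg (fun z : H₀ => (z : H)) hg
    · intro y z hyz
      have h1 := e.injective (Subtype.mk.inj hyz)
      exact Subtype.ext (Subtype.ext (Subtype.mk.inj h1))
  -- `NC (K ∩ H₀) ≤ NC K`
  have hN : Nat.card (NC (K.subgroupOf H₀)) ≤ Nat.card (NC K) := by
    refine Nat.card_le_card_of_injective (fun t => ⟨((t.1 : H₀) : H), ?_⟩) ?_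
    · intro g hg
      have h1 : g ∈ S ⊔ K := by rw [hsup]; exact Subgroup.mem_top g
      haveI := hS
      obtain ⟨s, hs, k, hk, rfl⟩ := Subgroup.mem_sup_of_normal_left.1 h1
      set s' : H₀ := ⟨k⁻¹ * s * k, hSH (by
        have := hS.conj_mem s hs k⁻¹
        rwa [inv_inv] at this)⟩ with hs'
      apply t.2 s'
      rw [Subgroup.mem_subgroupOf]
      show (k⁻¹ * s * k) * ((t.1 : H₀) : H) * (k⁻¹ * s * k)⁻¹ ∈ K
      have h4 : (k⁻¹ * s * k) * ((t.1 : H₀) : H) * (k⁻¹ * s * k)⁻¹ =
          k⁻¹ * (s * k * ((t.1 : H₀) : H) * (s * k)⁻¹) * k := by group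
      rw [h4]
      exact K.mul_mem (K.mul_mem (K.inv_mem hk) hg) hk
    · intro y z hyz
      exact Subtype.ext (Subtype.ext (Subtype.mk.inj hyz))
  -- indices
  have hidx : Nat.card H ≤ D.index * Nat.card H₀ := by
    have h1 : H₀.index ≤ D.index := by
      rw [hH₀, Subgroup.index_comap]
      have h2 : D.relIndex ⊤ ≠ 0 := by
        rw [Subgroup.relIndex_top_right]; exact Subgroup.index_ne_zero_of_finite
      exact (Subgroup.relIndex_le_of_le_right le_top h2).trans_eq (Subgroup.relIndex_top_right D)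
    rw [← H₀.index_mul_card]
    exact Nat.mul_le_mul_right _ h1
  have hidx2 : ((K.subgroupOf S).map e.toMonoidHom).index = K.index := by
    have h1 : ((K.subgroupOf S).map e.toMonoidHom).index = (K.subgroupOf S).index :=
      Subgroup.index_map_equiv (K.subgroupOf S) e
    rw [h1]
    exact relIndex_eq hS hsup
  rw [hidx2] at hfus
  have hstep : Nat.card H ≤ D.index * (2 * (fusD D x * Nat.card (NC K))) := by
    refine hidx.trans (Nat.mul_le_mul_left _ (hmain.trans (Nat.mul_le_mul_left 2 ?_)))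
    exact Nat.mul_le_mul hf hN
  calc (Nat.card H : ℝ) ≤ ((D.index * (2 * (fusD D x * Nat.card (NC K))) : ℕ) : ℝ) := by exact_mod_cast hstep
    _ = 2 * ((D.index : ℝ) * (fusD D x : ℝ)) * (Nat.card (NC K) : ℝ) := by push_cast; ring
    _ ≤ 2 * (C * Real.log (K.index : ℝ)) * (Nat.card (NC K) : ℝ) := by
      refine mul_le_mul_of_nonneg_right ?_ (Nat.cast_nonneg _)
      exact mul_le_mul_of_nonneg_left hfus two_pos.le
    _ = _ := by ring

theorem GoodD.mono {C : ℝ} (hC : 0 ≤ C) {M N : Subgroup T} (h : M ≤ N) (hN : GoodD C T N) : GoodD C T M := by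
  obtain ⟨D, u, b, x, h1, h2, h3, h4, h5, h6, h7, h8⟩ := hN
  exact ⟨D, u, b, x, h1, h2, h3, h4, h5, h6, fun α hα => h7 α (h hα),
    h8.trans (mul_le_mul_of_nonneg_left (log_index_le h) hC)⟩

theorem GoodD.le {C D : ℝ} (hCD : C ≤ D) {M : Subgroup T} (h : GoodD C T M) : GoodD D T M := by
  obtain ⟨E, u, b, x, h1, h2, h3, h4, h5, h6, h7, h8⟩ := h
  exact ⟨E, u, b, x, h1, h2, h3, h4, h5, h6, h7, h8.trans (mul_le_mul_of_nonneg_right hCD (log_index_nonneg M))⟩

/-- the whole automorphism group -/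
theorem GoodPP.goodD {C : ℝ} {M : Subgroup T} (h : GoodPP C T M) : GoodD C T M := by
  obtain ⟨u, b, x, h1, h2, h3, h4, h5, h6, h7⟩ := h
  haveI := Fact.mk h1
  refine ⟨⊤, u, b, x, le_top, h1, h2, h3, fun P _ _ hP => ?_, ?_, fun α hα => h6 _ hα ?_, ?_⟩
  · obtain ⟨Q, hQ⟩ := hP.exists_le_sylow
    have := h4 Q
    exact isCyclic_of_injective (Subgroup.inclusion hQ) (Subgroup.inclusion_injective hQ)
  · rwa [Subgroup.relIndex_top_right]
  · rw [← h3]
    exact orderOf_injective α.toMonoidHom α.injective x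
  · rw [Subgroup.index_top, Nat.cast_one, one_mul]
    refine le_trans (le_of_eq ?_) h7
    unfold fusD fusCard
    congr 1
    exact Nat.card_congr (Equiv.subtypeEquivRight fun y => by simp)

/-- only inner automorphisms -/
theorem goodD_inn {C : ℝ} {M : Subgroup T} {u b : ℕ} {x : T} (hu : u.Prime) (hb : b ≠ 0) (hx : orderOf x = u ^ b)
    (hcyc : ∀ P : Subgroup T, x ∈ P → (∀ y ∈ P, Commute y x) → IsPGroup u P → IsCyclic P)
    (hM : ∀ α : MulAut T, α x ∉ M) (h : (outCard T : ℝ) * (fus x : ℝ) ≤ C * Real.log (M.index : ℝ)) :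
    GoodD C T M := by
  refine ⟨(MulAut.conj (G := T)).range, u, b, x, le_rfl, hu, hb, hx, hcyc, ?_, hM, ?_⟩
  · rw [Subgroup.relIndex_self]
    exact hu.one_lt.ne' ∘ Nat.dvd_one.1
  · refine le_trans (le_of_eq ?_) h
    unfold fusD fus outCard
    congr 2
    refine Nat.card_congr (Equiv.subtypeEquivRight fun y => and_congr_right fun _ => ?_)
    rw [isConj_iff]
    constructor
    · rintro ⟨_, ⟨t, rfl⟩, h⟩
      exact ⟨t, h⟩
    · rintro ⟨t, h⟩
      exact ⟨_, ⟨t, rfl⟩, h⟩

/-- **The engine**: good subgroups of the simple group give the bound for the almost simple groups. -/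
theorem as_of_good {C : ℝ} (hC : 0 < C) (h : ∀ M : Subgroup T, IsCoatom M → GoodD C T M ∨ Spec C T M) :
    AS.{u, v} (1 / (2 * C)) T := by
  intro H _ _ S hS hST hc K hSK hsup
  obtain ⟨e⟩ := hST
  set M := (K.subgroupOf S).map e.toMonoidHom with hM
  have hidx : M.index = K.index := by
    have h1 : M.index = (K.subgroupOf S).index := Subgroup.index_map_equiv (K.subgroupOf S) e
    rw [h1]
    exact relIndex_eq hS hsup
  have hMtop : M ≠ ⊤ := by
    intro h1
    rw [← Subgroup.index_eq_one, hidx, Subgroup.index_eq_one] at h1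
    exact hSK (h1 ▸ le_top)
  obtain ⟨N, hN, hMN⟩ := (eq_top_or_exists_le_coatom M).resolve_left hMtop
  have hgood : GoodD C T M ∨ Spec C T M := (h N hN).imp (GoodD.mono hC.le hMN) (Spec.mono hC.le hMN)
  have hkey : (Nat.card H : ℝ) ≤ 2 * C * Real.log (K.index : ℝ) * (Nat.card (NC K) : ℝ) := by
    rcases hgood with h1 | h1
    · exact card_le_of_goodD hS e hc hsup h1
    · unfold Spec at h1
      rw [hidx] at h1
      have h2 : Nat.card H ≤ outCard T * Nat.card T := by
        rw [← S.index_mul_card, Nat.card_congr e.toEquiv]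
        exact Nat.mul_le_mul_right _ (Nat.le_of_dvd
          (Nat.pos_of_ne_zero Subgroup.index_ne_zero_of_finite) (index_dvd_outCard hS e hc))
      have h3 : (Nat.card (NC M) : ℝ) ≤ Nat.card (NC K) := by exact_mod_cast card_NC_le hS e hsup
      have h4 : 0 ≤ Real.log (K.index : ℝ) := Real.log_natCast_nonneg _
      have h5 : (Nat.card H : ℝ) ≤ C * Real.log (K.index : ℝ) * (Nat.card (NC K) : ℝ) := by
        calc (Nat.card H : ℝ) ≤ (outCard T : ℝ) * (Nat.card T : ℝ) := by exact_mod_cast h2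
          _ ≤ C * Real.log (K.index : ℝ) * (Nat.card (NC M) : ℝ) := h1
          _ ≤ _ := mul_le_mul_of_nonneg_left h3 (mul_nonneg hC.le h4)
      refine h5.trans (le_of_sub_nonneg ?_)
      have h6 : 0 ≤ C * Real.log (K.index : ℝ) * (Nat.card (NC K) : ℝ) :=
        mul_nonneg (mul_nonneg hC.le h4) (Nat.cast_nonneg _)
      linarith
  rw [div_mul_eq_mul_div, one_mul, div_le_iff₀ (by positivity)]
  linarith

/-- Every single group. -/
theorem as_self [IsSimpleGroup T] : AS.{u, v} (Real.log 2 / (Nat.card (MulAut T) : ℝ)) T := by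
  intro H _ _ S hS hST hc K hSK hsup
  obtain ⟨e⟩ := hST
  have h1 : Nat.card H ≤ Nat.card (MulAut T) :=
    Nat.card_le_card_of_injective _ (act_injective hS e hc)
  have hK : K ≠ ⊤ := fun h => hSK (h ▸ le_top)
  have h2 : 2 ≤ K.index := by
    have h3 : K.index ≠ 0 := Subgroup.index_ne_zero_of_finite
    have h4 : K.index ≠ 1 := fun h => hK (Subgroup.index_eq_one.1 h)
    omega
  have h3 : Real.log 2 ≤ Real.log (K.index : ℝ) := Real.log_le_log two_pos (by exact_mod_cast h2)
  have h4 : (1 : ℝ) ≤ (Nat.card (NC K) : ℝ) := by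
    have : Nonempty (NC K) := (NC_nonempty hK).to_subtype
    exact_mod_cast Nat.card_pos (α := NC K)
  have h5 : 0 < (Nat.card (MulAut T) : ℝ) := by exact_mod_cast Nat.card_pos (α := MulAut T)
  have h6 : 0 ≤ Real.log 2 := Real.log_nonneg one_le_two
  calc Real.log 2 / (Nat.card (MulAut T) : ℝ) * (Nat.card H : ℝ)
      ≤ Real.log 2 / (Nat.card (MulAut T) : ℝ) * (Nat.card (MulAut T) : ℝ) :=
        mul_le_mul_of_nonneg_left (by exact_mod_cast h1) (div_nonneg h6 h5.le)
    _ = Real.log 2 * 1 := by rw [div_mul_cancel₀ _ h5.ne', mul_one]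
    _ ≤ _ := mul_le_mul h3 h4 zero_le_one (h6.trans h3)

theorem AS.mono {ε δ : ℝ} (h : ε ≤ δ) (hT : AS.{u, v} δ T) : AS.{u, v} ε T := by
  intro H _ _ S hS hST hc K hSK hsup
  exact (mul_le_mul_of_nonneg_right h (Nat.cast_nonneg _)).trans (hT H S hS hST hc K hSK hsup)

theorem card_mulAut_le : Nat.card (MulAut T) ≤ Nat.card T ^ Nat.card T := by
  classical
  have := Fintype.ofFinite T
  have h1 : Nat.card (MulAut T) ≤ Nat.card (T → T) :=
    Nat.card_le_card_of_injective (fun α : MulAut T => (α : T → T)) fun α β h => MulEquiv.ext fun x => congrFun h x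
  rwa [Nat.card_fun] at h1

theorem AS.congr {T' : Type w} [Group T'] {ε : ℝ} (e : T ≃* T') (h : AS.{w, v} ε T') : AS.{u, v} ε T := by
  intro H _ _ S hS hST hc K hSK hsup
  obtain ⟨e'⟩ := hST
  exact h H S hS ⟨e'.trans e⟩ hc K hSK hsup

end

/-- Finitely many groups. -/
theorem as_of_card_le (B : ℕ) : ∃ ε : ℝ, 0 < ε ∧ ∀ (T : Type u) [Group T] [Finite T] [IsSimpleGroup T],
    Nat.card T ≤ B → AS.{u, v} ε T := by
  have hB : (0 : ℝ) < (((B + 1) ^ (B + 1) : ℕ) : ℝ) := by positivity
  refine ⟨Real.log 2 / (((B + 1) ^ (B + 1) : ℕ) : ℝ), div_pos (Real.log_pos one_lt_two) hB, ?_⟩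
  intro T _ _ _ hT
  refine AS.mono ?_ as_self
  have h1 : Nat.card (MulAut T) ≤ (B + 1) ^ (B + 1) := by
    refine card_mulAut_le.trans ((Nat.pow_le_pow_left (by omega : Nat.card T ≤ B + 1) _).trans ?_)
    exact Nat.pow_le_pow_right (by omega) (by omega)
  have h5 : 0 < (Nat.card (MulAut T) : ℝ) := by exact_mod_cast Nat.card_pos (α := MulAut T)
  exact div_le_div_of_nonneg_left (Real.log_nonneg one_le_two) h5 (by exact_mod_cast h1)

end Cfsg.Agent.H545.Dr
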