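import Cfsg.Agent.H545.Dr.Engine

/-!
# S5734: fusion is bounded by the dimension (helper545)

* `exists_primitive_mem_spectrum` : a matrix of order `u ^ (b + 1)` has a primitive eigenvalue over the algebraic closure;
* `card_le_of_charpoly` : at most `dim` powers of `A` have the characteristic polynomial of `A`;
* `fusD_le` : hence `fusD D x ≤ dim` for `T = G / scalars`, `G` linear, `D` induced by linear maps.
-/

set_option autoImplicit false

namespace Cfsg.Agent.H545.Dr

open Polynomial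

section

variable {ι : Type*} [Fintype ι] [DecidableEq ι]

theorem exists_primitive_mem_spectrum {K : Type*} [Field K] [IsAlgClosed K] (A : Matrix ι ι K) {u b : ℕ}
    (hu : u.Prime) (huK : (u : K) ≠ 0) (h1 : A ^ u ^ (b + 1) = 1) (h2 : A ^ u ^ b ≠ 1) :
    ∃ w : K, w ∈ spectrum K A ∧ IsPrimitiveRoot w (u ^ (b + 1)) := by
  have := Fact.mk hu
  have hne : NeZero ((u ^ (b + 1) : ℕ) : K) := ⟨by rw [Nat.cast_pow]; exact pow_ne_zero _ huK⟩
  have hc := congrArg (aeval A) (cyclotomic_prime_pow_mul_X_pow_sub_one K u b)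
  rw [map_mul, map_sub, map_sub, map_pow, map_pow, aeval_X, map_one, h1, sub_self] at hc
  have hnu : ¬ IsUnit (aeval A (cyclotomic (u ^ (b + 1)) K)) := by
    intro hun
    apply h2
    have h3 := (hun.mul_right_eq_zero).1 hc
    exact sub_eq_zero.1 h3
  have hs : (cyclotomic (u ^ (b + 1)) K) = (Multiset.map (fun x : K => X - C x)
      (cyclotomic (u ^ (b + 1)) K).roots).prod :=
    (IsAlgClosed.splits _).eq_prod_roots_of_monic (cyclotomic.monic _ K)
  rw [hs] at hnu
  obtain ⟨w, hw, hw2⟩ := spectrum.exists_mem_of_not_isUnit_aeval_prod hnu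
  exact ⟨w, hw, isRoot_cyclotomic_iff.1 hw2⟩

theorem card_le_of_charpoly {K : Type*} [Field K] (A : Matrix ι ι K) {u b : ℕ}
    (hu : u.Prime) (huK : (u : K) ≠ 0) (h1 : A ^ u ^ (b + 1) = 1) (h2 : A ^ u ^ b ≠ 1) (s : Finset ℕ)
    (hs : ∀ k ∈ s, k < u ^ (b + 1)) (hs2 : ∀ k ∈ s, (A ^ k).charpoly = A.charpoly) :
    s.card ≤ Fintype.card ι := by
  classical
  let L := AlgebraicClosure K
  let f : Matrix ι ι K →+* Matrix ι ι L := (algebraMap K L).mapMatrix
  have hinj : Function.Injective f := Matrix.map_injective (algebraMap K L).injective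
  have h1' : (f A) ^ u ^ (b + 1) = 1 := by rw [← map_pow, h1, map_one]
  have h2' : (f A) ^ u ^ b ≠ 1 := by
    intro h
    rw [← map_pow, ← map_one f] at h
    exact h2 (hinj h)
  have huL : (u : L) ≠ 0 := by
    intro h
    apply huK
    apply (algebraMap K L).injective
    rw [map_natCast, h, map_zero]
  obtain ⟨w, hw, hwp⟩ := exists_primitive_mem_spectrum (f A) hu huL h1' h2'
  have h3 : ∀ k ∈ s, w ^ k ∈ (f A).charpoly.roots.toFinset := by
    intro k hk
    rw [Multiset.mem_toFinset, mem_roots (f A).charpoly_monic.ne_zero, ← Matrix.mem_spectrum_iff_isRoot_charpoly]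
    have h4 : (f (A ^ k)).charpoly = (f A).charpoly := by
      have h5 : ∀ B : Matrix ι ι K, (f B).charpoly = B.charpoly.map (algebraMap K L) := fun B =>
        Matrix.charpoly_map B (algebraMap K L)
      rw [h5, h5, hs2 k hk]
    rw [Matrix.mem_spectrum_iff_isRoot_charpoly, ← h4, ← Matrix.mem_spectrum_iff_isRoot_charpoly, map_pow]
    exact spectrum.pow_mem_pow _ _ hw
  have h4 : (s.image fun k => w ^ k) ⊆ (f A).charpoly.roots.toFinset := by
    intro z hz
    obtain ⟨k, hk, rfl⟩ := Finset.mem_image.1 hz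
    exact h3 k hk
  have h5 : (s.image fun k => w ^ k).card = s.card := by
    refine Finset.card_image_of_injOn ?_
    intro k hk l hl hkl
    exact hwp.pow_inj (hs k hk) (hs l hl) hkl
  calc s.card = (s.image fun k => w ^ k).card := h5.symm
    _ ≤ (f A).charpoly.roots.toFinset.card := Finset.card_le_card h4
    _ ≤ (f A).charpoly.roots.card := Multiset.toFinset_card_le _
    _ ≤ (f A).charpoly.natDegree := Polynomial.card_roots' _
    _ = Fintype.card ι := Matrix.charpoly_natDegree_eq_dim _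

end

section

variable {ι : Type*} [Fintype ι] [DecidableEq ι] {K : Type*} [Field K] {G T : Type*} [Group G] [Group T]

/-- lifting an element of prime power order -/
theorem exists_lift [Finite G] (σ : G →* Matrix.GeneralLinearGroup ι K) (hσ : Function.Injective σ) (π : G →* T)
    (hπ : Function.Surjective π) (hker : ∀ g : G, π g = 1 → ∃ a : K, (σ g : Matrix ι ι K) = a • 1) {u c : ℕ}
    (hu : u.Prime) (hsc : ∀ a : K, a ^ u = 1 → a = 1) {x : T} (hx : orderOf x = u ^ c) :
    ∃ g : G, π g = x ∧ orderOf g = u ^ c := by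
  obtain ⟨g₀, hg₀⟩ := hπ x
  -- the order of `g₀ ^ (u ^ c)` is prime to `u`
  have h1 : π (g₀ ^ u ^ c) = 1 := by rw [map_pow, hg₀, ← hx, pow_orderOf_eq_one]
  have h2 : ¬ u ∣ orderOf (g₀ ^ u ^ c) := by
    intro hd
    obtain ⟨m, hm⟩ := hd
    set z := (g₀ ^ u ^ c) ^ m with hz
    have hz1 : z ^ u = 1 := by rw [hz, ← pow_mul, mul_comm m u, ← hm, pow_orderOf_eq_one]
    have hz2 : π z = 1 := by rw [hz, map_pow, h1, one_pow]
    obtain ⟨a, ha⟩ := hker z hz2
    have hz3 : z = 1 := by
      apply hσ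
      rw [map_one]
      apply Units.ext
      rw [ha, Units.val_one]
      have h4 : ((σ z : Matrix ι ι K)) ^ u = 1 := by
        rw [← Units.val_pow_eq_pow_val, ← map_pow, hz1, map_one, Units.val_one]
      rw [ha, _root_.smul_pow, one_pow] at h4
      rcases isEmpty_or_nonempty ι with hι | ⟨⟨i⟩⟩
      · exact Subsingleton.elim _ _
      · have h5 := congrFun (congrFun h4 i) i
        rw [Matrix.smul_apply, Matrix.one_apply_eq, smul_eq_mul, mul_one] at h5
        rw [hsc a h5, one_smul]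
    have h4 : orderOf (g₀ ^ u ^ c) ∣ m := orderOf_dvd_of_pow_eq_one hz3
    have h5 : 0 < orderOf (g₀ ^ u ^ c) := orderOf_pos _
    have h6 : 0 < m := by
      rcases Nat.eq_zero_or_pos m with h | h
      · rw [h, mul_zero] at hm; omega
      · exact h
    have h7 := Nat.le_of_dvd h6 h4
    rw [hm] at h7
    have h8 : 2 * m ≤ u * m := Nat.mul_le_mul_right _ hu.two_le
    omega
  set t := orderOf (g₀ ^ u ^ c) with ht
  have hcop : Nat.Coprime (u ^ c) t := Nat.Coprime.pow_left _ ((Nat.Prime.coprime_iff_not_dvd hu).2 h2)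
  -- `t t' = 1` modulo `u ^ c`
  obtain ⟨g, hg1, hg2⟩ : ∃ g : G, π g = x ∧ g ^ u ^ c = 1 := by
    obtain ⟨t', ht'⟩ := exists_pow_eq_self_of_coprime (x := x) (n := t) (by rw [hx]; exact hcop.symm)
    refine ⟨(g₀ ^ t) ^ t', ?_, ?_⟩
    · rw [map_pow, map_pow, hg₀, ht']
    · rw [← pow_mul, ← pow_mul, show t * (t' * u ^ c) = u ^ c * t * t' by ring, pow_mul, pow_mul, ht,
        pow_orderOf_eq_one, one_pow]
  refine ⟨g, hg1, Nat.dvd_antisymm (orderOf_dvd_of_pow_eq_one hg2) ?_⟩
  rw [← hx, ← hg1]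
  exact orderOf_map_dvd π g

/-- **The fusion is bounded by the dimension.** -/
theorem fusD_le [Finite G] (σ : G →* Matrix.GeneralLinearGroup ι K) (hσ : Function.Injective σ) (π : G →* T)
    (hπ : Function.Surjective π) (hker : ∀ g : G, π g = 1 → ∃ a : K, (σ g : Matrix ι ι K) = a • 1) {u b : ℕ}
    (hu : u.Prime) (huK : (u : K) ≠ 0) (hsc : ∀ a : K, a ^ u = 1 → a = 1) (D : Subgroup (MulAut T))
    (hD : ∀ α ∈ D, ∃ P : Matrix.GeneralLinearGroup ι K, ∀ g h : G, π h = α (π g) →
      ∃ a : K, (σ h : Matrix ι ι K) = a • ((P * σ g * P⁻¹ : Matrix.GeneralLinearGroup ι K) : Matrix ι ι K))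
    {x : T} (hx : orderOf x = u ^ (b + 1)) : fusD D x ≤ Fintype.card ι := by
  classical
  obtain ⟨g, hg, hgo⟩ := exists_lift σ hσ π hπ hker hu hsc hx
  set A : Matrix ι ι K := (σ g : Matrix ι ι K) with hA
  have hpow : ∀ n : ℕ, (σ (g ^ n) : Matrix ι ι K) = A ^ n := fun n => by
    rw [map_pow, Units.val_pow_eq_pow_val]
  have h1 : A ^ u ^ (b + 1) = 1 := by rw [← hpow, ← hgo, pow_orderOf_eq_one, map_one, Units.val_one]
  have h2 : A ^ u ^ b ≠ 1 := by
    intro h
    rw [← hpow] at h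
    have h3 : g ^ u ^ b = 1 := by
      apply hσ
      rw [map_one]
      exact Units.ext h
    have h4 := orderOf_dvd_of_pow_eq_one h3
    rw [hgo, Nat.pow_dvd_pow_iff_le_right hu.one_lt] at h4
    omega
  have hscb : ∀ (n : ℕ) (a : K), a ^ u ^ n = 1 → a = 1 := by
    intro n
    induction n with
    | zero => intro a ha; simpa using ha
    | succ n ih =>
      intro a ha
      rw [pow_succ, pow_mul] at ha
      exact ih a (hsc _ ha)
  set s := (Finset.range (u ^ (b + 1))).filter fun k => (A ^ k).charpoly = A.charpoly with hs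
  have hcard : fusD D x ≤ s.card := by
    have hmem : ∀ k : ℕ, k < u ^ (b + 1) → (∃ α ∈ D, α x = x ^ k) → k ∈ s := by
      rintro k hk ⟨α, hα, hαx⟩
      rw [hs, Finset.mem_filter, Finset.mem_range]
      refine ⟨hk, ?_⟩
      obtain ⟨P, hP⟩ := hD α hα
      obtain ⟨a, ha⟩ := hP g (g ^ k) (by rw [map_pow, hg, hαx])
      rw [hpow] at ha
      set B : Matrix ι ι K := ((P * σ g * P⁻¹ : Matrix.GeneralLinearGroup ι K) : Matrix ι ι K) with hB
      have hBp : ∀ n : ℕ, B ^ n = ((P * σ (g ^ n) * P⁻¹ : Matrix.GeneralLinearGroup ι K) : Matrix ι ι K) := by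
        intro n
        rw [hB, ← Units.val_pow_eq_pow_val, conj_pow, map_pow]
      have hB1 : B ^ u ^ (b + 1) = 1 := by
        rw [hBp, ← hgo, pow_orderOf_eq_one, map_one, mul_one, mul_inv_cancel, Units.val_one]
      have ha1 : a = 1 ∨ IsEmpty ι := by
        rcases isEmpty_or_nonempty ι with hι | ⟨⟨i⟩⟩
        · exact Or.inr hι
        · left
          apply hscb (b + 1)
          have h5 : (A ^ k) ^ u ^ (b + 1) = a ^ u ^ (b + 1) • (1 : Matrix ι ι K) := by
            rw [ha, _root_.smul_pow, hB1]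
          rw [← pow_mul, mul_comm k, pow_mul, h1, one_pow] at h5
          have h6 := congrFun (congrFun h5 i) i
          rw [Matrix.smul_apply, Matrix.one_apply_eq, smul_eq_mul, mul_one] at h6
          exact h6.symm
      rcases ha1 with rfl | hι
      · rw [ha, one_smul, hB]
        have h6 : ((P * σ g * P⁻¹ : Matrix.GeneralLinearGroup ι K) : Matrix ι ι K) =
            (P : Matrix ι ι K) * A * ((P⁻¹ : Matrix.GeneralLinearGroup ι K) : Matrix ι ι K) := by
          rw [Units.val_mul, Units.val_mul]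
        rw [h6]
        rw [Matrix.coe_units_inv]
        exact Matrix.charpoly_units_conj P A
      · congr 1
        exact Subsingleton.elim _ _
    -- inject
    have hex : ∀ y : {y : T // y ∈ Subgroup.zpowers x ∧ ∃ α ∈ D, α x = y}, ∃ k : ℕ, k < u ^ (b + 1) ∧ x ^ k = y.1 := by
      rintro ⟨y, hy, -⟩
      have hfin : IsOfFinOrder x := by
        rw [← orderOf_pos_iff, hx]; exact pow_pos hu.pos _
      obtain ⟨k, hk, hk2⟩ := hfin.mem_zpowers_iff_mem_range_orderOf.1 hy |> Finset.mem_image.1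
      rw [Finset.mem_range, hx] at hk
      exact ⟨k, hk, hk2⟩
    choose κ hκ1 hκ2 using hex
    have h3 : Nat.card {y : T // y ∈ Subgroup.zpowers x ∧ ∃ α ∈ D, α x = y} ≤ Nat.card s := by
      refine Nat.card_le_card_of_injective (fun y => ⟨κ y, hmem _ (hκ1 y) ?_⟩) ?_
      · obtain ⟨α, hα, hαx⟩ := y.2.2
        exact ⟨α, hα, by rw [hαx, hκ2 y]⟩
      · intro y y' hyy
        have h4 : κ y = κ y' := Subtype.mk.inj hyy
        apply Subtype.ext
        rw [← hκ2 y, ← hκ2 y', h4]
    rw [Nat.card_eq_fintype_card (α := s), Fintype.card_coe] at h3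
    exact h3
  refine hcard.trans (card_le_of_charpoly A hu huK h1 h2 s ?_ ?_)
  · intro k hk
    rw [hs, Finset.mem_filter, Finset.mem_range] at hk
    exact hk.1
  · intro k hk
    rw [hs, Finset.mem_filter] at hk
    exact hk.2

/-- The inner automorphisms. -/
theorem fus_le [Finite G] (σ : G →* Matrix.GeneralLinearGroup ι K) (hσ : Function.Injective σ) (π : G →* T)
    (hπ : Function.Surjective π) (hker : ∀ g : G, π g = 1 → ∃ a : K, (σ g : Matrix ι ι K) = a • 1) {u b : ℕ}
    (hu : u.Prime) (huK : (u : K) ≠ 0) (hsc : ∀ a : K, a ^ u = 1 → a = 1)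
    {x : T} (hx : orderOf x = u ^ (b + 1)) : fus x ≤ Fintype.card ι := by
  have h1 : fus x = fusD (MulAut.conj (G := T)).range x := by
    unfold fusD fus
    refine Nat.card_congr (Equiv.subtypeEquivRight fun y => and_congr_right fun _ => ?_)
    rw [isConj_iff]
    constructor
    · rintro ⟨t, h⟩
      exact ⟨_, ⟨t, rfl⟩, h⟩
    · rintro ⟨_, ⟨t, rfl⟩, h⟩
      exact ⟨t, h⟩
  rw [h1]
  refine fusD_le σ hσ π hπ hker hu huK hsc _ ?_ hx
  rintro _ ⟨t, rfl⟩
  obtain ⟨z, rfl⟩ := hπ t
  refine ⟨σ z, fun g h hgh => ?_⟩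
  rw [MulAut.conj_apply, ← map_mul, ← map_inv, ← map_mul] at hgh
  obtain ⟨a, ha⟩ := hker (h * (z * g * z⁻¹)⁻¹) (by rw [map_mul, hgh, map_inv, mul_inv_cancel])
  refine ⟨a, ?_⟩
  have h2 : σ h = σ (h * (z * g * z⁻¹)⁻¹) * (σ z * σ g * (σ z)⁻¹) := by
    rw [← map_inv σ z, ← map_mul, ← map_mul, ← map_mul]
    congr 1
    group
  rw [h2, Units.val_mul, ha, smul_mul_assoc, one_mul]

end

end Cfsg.Agent.H545.Dr
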